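import Cfsg.Agent.Lib.CS3.WG
import Cfsg.Agent.Lib.Hall.Camina

/-! # Groups with at most three class sizes: basic facts -/

set_option autoImplicit false
set_option linter.unusedSectionVars false

namespace Cfsg.Lib.CS3

open Subgroup Cfsg.Lib.Hall Cfsg.Lib.Transfer

variable {G : Type*} [Group G] [Finite G]

theorem not_dvd_relIndex_of_forall {r : ℕ} (hr : r.Prime) {H X : Subgroup G} (h : ∀ v ∈ H, PE r v → v ∈ X) :
    ¬ r ∣ X.relIndex H := by
  haveI := Fact.mk hr
  obtain ⟨T, hT⟩ := exists_sylowIn (p := r) H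
  exact fun hd => hT.not_dvd (hd.trans (relIndex_dvd_of_le_left H fun v hv =>
    h v (hT.le hv) (isPGroup_zpowers_of_mem hT.isPGroup hv)))

theorem exists_pe_of_dvd {r : ℕ} (hr : r.Prime) {H X : Subgroup G} (h : r ∣ X.relIndex H) :
    ∃ v ∈ H, v ∉ X ∧ PE r v := by
  by_contra hc
  push Not at hc
  exact not_dvd_relIndex_of_forall hr (fun v hv hp => by_contra fun e => hc v hv e hp) h

theorem dvd_relIndex_of_pe {r : ℕ} (hr : r.Prime) {H X : Subgroup G} (hn : H ≤ normalizer (X : Set G)) {v : G}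
    (hv : v ∈ H) (hvX : v ∉ X) (hp : PE r v) : r ∣ X.relIndex H := by
  haveI := normal_subgroupOf_of_le_normalizer hn
  obtain ⟨k, hk⟩ := Core.isPGroup_iff_forall_mem.1 hp v (mem_zpowers v)
  let x : H ⧸ X.subgroupOf H := QuotientGroup.mk ⟨v, hv⟩
  have hx : PE r x := Core.isPGroup_zpowers_of_pow_eq_one (k := k) (by
    rw [← QuotientGroup.mk_pow, show (⟨v, hv⟩ : H) ^ r ^ k = 1 from Subtype.ext hk]
    rfl)
  refine (Core.dvd_card_of_isPGroup_of_ne_bot hr hx ?_).trans (card_subgroup_dvd_card _)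
  rw [Ne, zpowers_eq_bot]
  exact fun e => hvX ((QuotientGroup.eq_one_iff (⟨v, hv⟩ : H)).1 e)

theorem relIndex_eq_of_index_eq {Y X X' : Subgroup G} (h : Y ≤ X) (h' : Y ≤ X') (e : X.index = X'.index) :
    Y.relIndex X = Y.relIndex X' := by
  have h1 := relIndex_mul_index h
  rw [← relIndex_mul_index h', e] at h1
  exact Nat.eq_of_mul_eq_mul_right (Nat.pos_of_ne_zero index_ne_zero_of_finite) h1

theorem relIndex_eq_of_index_eq' {X X' H : Subgroup G} (h : X ≤ H) (h' : X' ≤ H) (e : X.index = X'.index) :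
    X.relIndex H = X'.relIndex H := by
  have h1 := relIndex_mul_index h
  rw [e, ← relIndex_mul_index h'] at h1
  exact Nat.eq_of_mul_eq_mul_right (Nat.pos_of_ne_zero index_ne_zero_of_finite) h1

theorem eq_of_le_of_index_le {X Y : Subgroup G} (h : X ≤ Y) (e : X.index ≤ Y.index) : X = Y := by
  refine le_antisymm h (relIndex_eq_one.1 ?_)
  have h1 := relIndex_mul_index h
  have h2 : 0 < Y.index := Nat.pos_of_ne_zero index_ne_zero_of_finite
  have h3 : X.relIndex Y ≠ 0 := fun e => by rw [e, zero_mul] at h1; exact index_ne_zero_of_finite h1.symm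
  by_contra hne
  have : 2 ≤ X.relIndex Y := by omega
  nlinarith

theorem index_lt_card {A T : Type*} [Group A] [Finite T] (A₀ : Subgroup A) (f : A → T)
    (hf : ∀ a a', f a = f a' → a⁻¹ * a' ∈ A₀) (t₀ : T) (h0 : ∀ a, f a ≠ t₀) : A₀.index < Nat.card T := by
  have hi : Function.Injective (fun q : A ⧸ A₀ => f q.out) := fun q q' e => by
    rw [← q.out_eq, ← q'.out_eq]; exact QuotientGroup.eq.2 (hf _ _ e)
  haveI := Finite.of_injective _ hi
  haveI := Fintype.ofFinite (A ⧸ A₀)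
  haveI := Fintype.ofFinite T
  rw [index, Nat.card_eq_fintype_card, Nat.card_eq_fintype_card]
  exact Fintype.card_lt_of_injective_of_notMem _ hi (b := t₀) fun ⟨q, hq⟩ => h0 _ hq

theorem mul_not_mem_center {x y : G} (hc : Commute x y) (h : (orderOf x).Coprime (orderOf y)) (hx : x ∉ center G) :
    x * y ∉ center G := fun e => hx (by
  obtain ⟨k, hk⟩ := left_mem_zpowers_mul hc h
  rw [← hk]; exact zpow_mem e k)

theorem orderOf_mul_coprime {x y v : G} (hc : Commute x y) (h1 : (orderOf x).Coprime (orderOf v))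
    (h2 : (orderOf y).Coprime (orderOf v)) : (orderOf (x * y)).Coprime (orderOf v) :=
  (Nat.Coprime.mul_left h1 h2).coprime_dvd_left hc.orderOf_mul_dvd_mul_orderOf

theorem Cen.sylowIn {H X : Subgroup G} {s : ℕ} (h : Cen H X s) (hs : s.Prime) (hd : ¬ s ∣ X.relIndex H) :
    SylowIn s (Bs X s) H := by
  refine ⟨(Core.pCoreOf_le X).trans h.le, Core.isPGroup_pCoreOf X, ?_⟩
  rw [← relIndex_mul_relIndex _ _ _ (Core.pCoreOf_le X) h.le, hs.dvd_mul]
  exact fun e => e.elim (not_dvd_relIndex_of_forall hs fun v hv hp => h.mem_iff.2 ⟨hv, hp⟩) hd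

theorem Cen.eq_inf {H X : Subgroup G} {s : ℕ} (h : Cen H X s) : X = H ⊓ centralizer (Bs X s : Set G) := by
  obtain ⟨v, hv, hp, hH⟩ := h.ex
  exact le_antisymm (le_inf h.le h.le_cent) ((inf_le_inf_left H
    (centralizer_le (Set.singleton_subset_iff.2 (h.mem_iff.2 ⟨hv, hp⟩)))).trans (h.eq v hv hp hH))

theorem Cen.exists_cj {H X X' : Subgroup G} {s : ℕ} (h : Cen H X s) (h' : Cen H X' s) (hs : s.Prime)
    (hd : ¬ s ∣ X.relIndex H) (hd' : ¬ s ∣ X'.relIndex H) : ∃ g ∈ H, cj g X = X' := by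
  haveI := Fact.mk hs
  obtain ⟨g, hg, e⟩ := (h.sylowIn hs hd).exists_cj_eq (h'.sylowIn hs hd')
  refine ⟨g, hg, ?_⟩
  conv_lhs => rw [h.eq_inf]
  rw [cj_inf, cj_eq_of_mem hg, cj_centralizer, e, ← h'.eq_inf]

theorem le_of_cover {H X : Subgroup G} (h : ∀ x ∈ H, ∃ g ∈ H, x ∈ cj g X) : H ≤ X := by
  refine subgroupOf_eq_top.1 (eq_top_of_forall_conj_mem fun x => ?_)
  obtain ⟨g, hg, hx⟩ := h x x.2
  exact ⟨⟨g⁻¹, H.inv_mem hg⟩, by simpa [mem_subgroupOf] using mem_cj.1 hx⟩

/-- the non-central class sizes are `m < n` -/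
structure CS (G : Type*) [Group G] (m n : ℕ) : Prop where
  all : ∀ x : G, x ∉ center G → cs x = m ∨ cs x = n
  lt : m < n

variable {m n : ℕ}

theorem CS.le_n (h : CS G m n) {x : G} (hx : x ∉ center G) : cs x ≤ n := by
  rcases h.all x hx with e | e
  · rw [e]; exact h.lt.le
  · exact e.le

theorem CS.m_le (h : CS G m n) {x : G} (hx : x ∉ center G) : m ≤ cs x := by
  rcases h.all x hx with e | e
  · exact e.ge
  · rw [e]; exact h.lt.le

theorem CS.eq_of_large (h : CS G m n) {x y : G} (hx : cs x = m) (hy : y ∉ center G) (hle : C[x] ≤ C[y]) :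
    C[x] = C[y] := eq_of_le_of_index_le hle (hx ▸ h.m_le hy)

theorem CS.eq_of_small (h : CS G m n) {X : Subgroup G} {y : G} (hx : X.index = n) (hy : y ∉ center G)
    (hle : C[y] ≤ X) : C[y] = X := eq_of_le_of_index_le hle (hx ▸ h.le_n hy)

theorem CS.small_of_ne (h : CS G m n) {x y : G} (hy : y ∉ center G) (hle : C[x] ≤ C[y]) (hne : C[x] ≠ C[y]) :
    cs x = n ∧ cs y = m := by
  have hx : x ∉ center G := fun e => hy (cent_eq_top_iff.1 (top_le_iff.1 (cent_eq_top_iff.2 e ▸ hle)))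
  refine ⟨(h.all x hx).resolve_left fun e => hne (h.eq_of_large e hy hle),
    (h.all y hy).resolve_right fun e => hne (h.eq_of_small e hx hle)⟩

theorem CS.cen_of (h : CS G m n) {x v : G} (hx : x ∉ center G) (hn : cs x = n) (hv : v ∈ C[x])
    (hc : (orderOf x).Coprime (orderOf v)) : C[x] ≤ C[v] := by
  have c : Commute x v := (mem_cent_iff.1 hv).symm
  have := h.eq_of_small hn (mul_not_mem_center c hc hx) (by rw [cent_mul_of_coprime c hc]; exact inf_le_left)
  rw [← this, cent_mul_of_coprime c hc]; exact inf_le_right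

/-- `y` has centraliser `H`; an element `w` of `H` of coprime order which is not central in `H` has small
centraliser in `H` -/
theorem CS.inf_small (h : CS G m n) {y w : G} (hy : y ∉ center G) (hw : w ∈ C[y]) (hH : ¬ C[y] ≤ C[w])
    (hc : (orderOf y).Coprime (orderOf w)) :
    C[y * w] = C[y] ⊓ C[w] ∧ y * w ∉ center G ∧ cs (y * w) = n ∧ cs y = m := by
  have c : Commute y w := (mem_cent_iff.1 hw).symm
  have e := cent_mul_of_coprime c hc
  exact ⟨e, mul_not_mem_center c hc hy, h.small_of_ne hy (e ▸ inf_le_left) fun e' => hH (by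
    rw [← e', e]; exact inf_le_right)⟩

theorem CS.inf_le (h : CS G m n) {y w v : G} (hy : y ∉ center G) (hw : w ∈ C[y]) (hH : ¬ C[y] ≤ C[w])
    (hc : (orderOf y).Coprime (orderOf w)) (hv : v ∈ C[y] ⊓ C[w]) (h1 : (orderOf y).Coprime (orderOf v))
    (h2 : (orderOf w).Coprime (orderOf v)) : C[y] ⊓ C[w] ≤ C[v] := by
  obtain ⟨e, hz, hn, -⟩ := h.inf_small hy hw hH hc
  rw [← e] at hv ⊢
  exact h.cen_of hz hn hv (orderOf_mul_coprime (mem_cent_iff.1 hw).symm h1 h2)

/-- the primes dividing `|G/Z(G)|` -/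
def Pi (G : Type*) [Group G] (r : ℕ) : Prop := r.Prime ∧ ∃ t : G, t ∉ center G ∧ PE r t

/-- not an `F`-group -/
structure NF (G : Type*) [Group G] (m n : ℕ) : Prop extends CS G m n where
  ex : ∃ x y : G, y ∉ center G ∧ C[x] ≤ C[y] ∧ C[x] ≠ C[y]

theorem NF.ex' (h : NF G m n) : ∃ (x y : G) (p : ℕ), p.Prime ∧ PE p y ∧ y ∉ center G ∧ C[x] ≤ C[y] ∧ C[x] ≠ C[y] := by
  obtain ⟨x, y, hy, hle, hne⟩ := h.ex
  obtain ⟨p, hp, z, hz, hpz, hzc⟩ := exists_pPart_not_mem hy
  have e := h.eq_of_large (h.small_of_ne hy hle hne).2 hzc (cent_le_of_mem_zpowers hz)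
  exact ⟨x, z, p, hp, hpz, hzc, e ▸ hle, e ▸ hne⟩

theorem NF.dvd (h : NF G m n) : m ∣ n := by
  obtain ⟨x, y, hy, hle, hne⟩ := h.ex
  obtain ⟨e1, e2⟩ := h.small_of_ne hy hle hne
  rw [← e1, ← e2]; exact index_dvd_of_le hle

theorem Pi.dvd {r : ℕ} (hr : Pi G r) : ∃ x : G, r ∣ cs x := by
  haveI := Fact.mk hr.1
  by_contra hc
  push Not at hc
  obtain ⟨t, ht, hp⟩ := hr.2
  obtain ⟨P, hP⟩ := hp.exists_le_sylow
  exact ht (sylow_le_center_of_forall_not_dvd P hc (hP (mem_zpowers t)))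

theorem pi_of_dvd {r : ℕ} (hr : r.Prime) {X H : Subgroup G} (hX : center G ≤ X) (h : r ∣ X.relIndex H) : Pi G r := by
  obtain ⟨v, -, hv, hp⟩ := exists_pe_of_dvd hr h
  exact ⟨hr, v, fun e => hv (hX e), hp⟩

theorem NF.dvd_n (h : NF G m n) {r : ℕ} (hr : Pi G r) : r ∣ n := by
  obtain ⟨x, hx⟩ := hr.dvd
  have hx1 : x ∉ center G := fun e => hr.1.ne_one (Nat.dvd_one.1 (cs_eq_one_iff.2 e ▸ hx))
  rcases h.all x hx1 with e | e
  · exact (e ▸ hx).trans h.dvd
  · exact e ▸ hx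

theorem NF.exists_pe (h : NF G m n) {r : ℕ} (hr : Pi G r) {z : G} (hz : z ∉ center G) :
    ∃ t ∈ C[z], t ∉ center G ∧ PE r t := by
  obtain ⟨x, y, p, hp, hpy, hy, hle, hne⟩ := h.ex'
  obtain ⟨ex, ey⟩ := h.small_of_ne hy hle hne
  have hn : ∀ H : Subgroup G, H ≤ normalizer ((center G : Subgroup G) : Set G) := fun H =>
    le_normalizer_of_normal
  have hba : (center G).relIndex C[x] ∣ (center G).relIndex C[y] := Core.relIndex_dvd_relIndex_of_le_right _ hle
  have key : r ∣ (center G).relIndex C[x] := by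
    by_contra hb
    have big : ∀ w t : G, w ∉ center G → t ∈ C[w] → t ∉ center G → PE r t → cs w = m := fun w t hw ht htc hpt =>
      (h.all w hw).resolve_right fun e => hb (by
        rw [relIndex_eq_of_index_eq (center_le_cent x) (center_le_cent w) (ex.trans e.symm)]
        exact dvd_relIndex_of_pe hr.1 (hn _) ht htc hpt)
    obtain ⟨t₀, ht₀, hp₀⟩ := hr.2
    have ha : r ∣ (center G).relIndex C[y] := by
      rw [relIndex_eq_of_index_eq (center_le_cent y) (center_le_cent t₀)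
        (ey.trans (big t₀ t₀ ht₀ (self_mem_cent _) ht₀ hp₀).symm)]
      exact dvd_relIndex_of_pe hr.1 (hn _) (self_mem_cent _) ht₀ hp₀
    obtain ⟨t, ht, htc, hpt⟩ := exists_pe_of_dvd hr.1 ha
    have hpr : r ≠ p := by
      rintro rfl
      exact hb (dvd_relIndex_of_pe hr.1 (hn _) (mem_cent_comm.1 (hle (self_mem_cent x))) hy hpy)
    have cen : ∀ w ∈ C[t], (orderOf t).Coprime (orderOf w) → C[t] ≤ C[w] := fun w hw hc => by
      by_contra hH
      obtain ⟨e, hz, hs, -⟩ := h.inf_small htc hw hH hc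
      have := big _ t hz (e ▸ ⟨self_mem_cent t, mem_cent_comm.1 hw⟩) htc hpt
      exact h.lt.ne (this.symm.trans hs)
    have e1 := h.eq_of_large (big t t htc (self_mem_cent _) htc hpt) hy
      (cen y (mem_cent_comm.1 ht) (PE.coprime hr.1 hp hpr hpt hpy))
    obtain ⟨u, hu, w, hw, huw, hpu, hcw⟩ := exists_pPart hr.1 x
    have huc : u ∈ center G := by
      by_contra huc
      exact hb (dvd_relIndex_of_pe hr.1 (hn _) (zpowers_le.2 (self_mem_cent x) hu) huc hpu)
    have e2 : C[x] = C[w] := by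
      rw [huw, (commute_of_mem_zpowers hu hw).eq, cent_mul_center huc]
    refine hne (le_antisymm hle ?_)
    rw [e2, ← e1]
    exact cen w (e1 ▸ hle (zpowers_le.2 (self_mem_cent x) hw)) (coprime_orderOf_of_isPGroup hr.1 hpt hcw)
  refine exists_pe_of_dvd hr.1 ?_
  rcases h.all z hz with e | e
  · rw [relIndex_eq_of_index_eq (center_le_cent z) (center_le_cent y) (e.trans ey.symm)]; exact key.trans hba
  · rw [relIndex_eq_of_index_eq (center_le_cent z) (center_le_cent x) (e.trans ex.symm)]; exact key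

end Cfsg.Lib.CS3
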