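import Cfsg.Agent.Lib.CS3.F
import Cfsg.Agent.Lib.Coprime.PGroup
import Cfsg.Agent.Lib.PGrp.Critical
import Cfsg.Agent.Lib.PGrp.MaxClass

/-! # Class sizes `1, m, m n` with `m, n` coprime -/

set_option autoImplicit false
set_option linter.unusedSectionVars false

namespace Cfsg.Lib.CS3

open Subgroup Cfsg.Lib.Hall Cfsg.Lib.Transfer

variable {G : Type*} [Group G] [Finite G]

theorem Cen.relIndex_eq {H C P : Subgroup G} {p q : ℕ} (h : Cen H C q) (hp : p.Prime) (hq : q.Prime) (hpq : p ≠ q)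
    (hle : P ≤ H ⊓ normalizer (C : Set G)) (h1 : ∀ g ∈ P, g ^ p ∈ C) (h2 : ∀ g ∈ P, ∀ k ∈ P, g * k * g⁻¹ * k⁻¹ ∈ C)
    (h3 : ¬ P ≤ C) : C.relIndex P = p := by
  obtain ⟨g, hg, hgC⟩ := SetLike.not_le_iff_exists.1 h3
  obtain ⟨V, _, _, _, hV, F⟩ := h.fixAct ⟨g, (hle hg).1, (hle hg).2, hgC⟩
  let f : P →* ↥(H ⊓ normalizer (C : Set G)) ⧸ C.subgroupOf (H ⊓ normalizer (C : Set G)) :=
    (QuotientGroup.mk' _).comp (inclusion hle)
  have hf : ∀ a : P, f a = 1 ↔ (a : G) ∈ C := fun a => QuotientGroup.eq_one_iff (inclusion hle a)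
  have hk : f.ker = C.subgroupOf P := by ext a; exact hf a
  have hpow : ∀ a : P, f a ^ p = 1 := fun a => by rw [← map_pow, hf]; exact h1 a a.2
  have hcomm : ∀ a b : P, Commute (f a) (f b) := fun a b => by
    have := (hf (a * b * a⁻¹ * b⁻¹)).2 (h2 a a.2 b b.2)
    rw [map_mul, map_mul, map_mul, map_inv, map_inv, mul_inv_eq_one, mul_inv_eq_iff_eq_mul] at this
    exact this
  have hg1 : f ⟨g, hg⟩ ≠ 1 := fun e => hgC ((hf _).1 e)
  haveI := Fact.mk hp
  have ho : Nat.card (zpowers (f ⟨g, hg⟩)) = p := by rw [Nat.card_zpowers]; exact orderOf_eq_prime (hpow _) hg1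
  have hr : f.range = zpowers (f ⟨g, hg⟩) := by
    refine le_antisymm ?_ (zpowers_le.2 ⟨_, rfl⟩)
    rintro _ ⟨a, rfl⟩
    by_contra ha
    obtain ⟨v, y, hv⟩ := F.nontriv
    refine hv (mem_of_pow_mem hq hV ((Nat.coprime_primes hp hq).2 hpq) (Y := fixS _ V) ?_ y)
    rw [← ho]
    refine F.pow_card_mem (by rwa [Ne, zpowers_eq_bot]) (centralizer_le_normalizer _ ?_) ha hp ?_ v
    · rintro _ ⟨k, rfl⟩
      exact ((hcomm a _).zpow_right k).eq.symm
    · rintro _ ⟨k, rfl⟩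
      change (f a * f ⟨g, hg⟩ ^ k) ^ p = 1
      rw [← map_zpow, ← map_mul, hpow]
  rw [relIndex, ← hk, index_ker, hr, ho]

/-- an element of `X ⊓ P` which is central in `P` modulo `Z(G)` -/
theorem exists_cmod {p : ℕ} (hp : p.Prime) {P X : Subgroup G} (hP : IsPGroup p P) (hn : P ≤ normalizer (X : Set G))
    (hX : ¬ P ⊓ X ≤ center G) : ∃ w ∈ P ⊓ X, w ∉ center G ∧ (∀ g ∈ P, g ^ p ∈ C[w]) ∧
      (∀ g ∈ P, ∀ k ∈ P, g * k * g⁻¹ * k⁻¹ ∈ C[w]) ∧ P ≤ normalizer (C[w] : Set G) := by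
  haveI := Fact.mk hp
  haveI := hP.isNilpotent
  haveI : (X.subgroupOf P).Normal := normal_subgroupOf_of_le_normalizer hn
  have hlt : (center G).subgroupOf P ⊓ X.subgroupOf P < X.subgroupOf P :=
    lt_of_le_of_ne inf_le_right fun e => hX fun a ha => (inf_eq_right.1 e : _ ≤ _) (x := ⟨a, ha.1⟩) ha.2
  obtain ⟨x, hx, hxc, hc⟩ := Core.exists_central_mod_of_lt hlt
  have hxc' : (x : G) ∉ center G := fun e => hxc ⟨e, hx⟩
  have hc' : ∀ g ∈ P, g * x * g⁻¹ * (x : G)⁻¹ ∈ center G := fun g hg => (hc ⟨g, hg⟩).1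
  obtain ⟨k, hk⟩ := hP x
  have hex : ∃ k, (x : G) ^ p ^ k ∈ center G := ⟨k, by rw [← coe_pow, hk]; exact one_mem _⟩
  classical
  obtain ⟨j, hj⟩ : ∃ j, Nat.find hex = j + 1 := Nat.exists_eq_succ_of_ne_zero fun e => hxc' (by
    simpa [e] using Nat.find_spec hex)
  obtain ⟨w, hw⟩ : ∃ w, w = (x : G) ^ p ^ j := ⟨_, rfl⟩
  have hw1 : w ∉ center G := hw ▸ Nat.find_min hex (by omega)
  have hw2 : w ^ p ∈ center G := by rw [hw, ← pow_mul, ← pow_succ, ← hj]; exact Nat.find_spec hex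
  have hw3 : ∀ g ∈ P, ∃ z ∈ center G, g * w * g⁻¹ = z * w := fun g hg => by
    refine ⟨(g * x * g⁻¹ * (x : G)⁻¹) ^ p ^ j, pow_mem (hc' g hg) _, ?_⟩
    rw [hw, ← Commute.mul_pow (mem_center_iff.1 (hc' g hg) x).symm, inv_mul_cancel_right, conj_pow]
  refine ⟨w, hw ▸ pow_mem (show (x : G) ∈ P ⊓ X from ⟨x.2, hx⟩) _, hw1, fun g hg => ?_, fun g hg k hk => ?_, fun g hg => ?_⟩
  · obtain ⟨z, hz, e⟩ := hw3 g hg
    have hzp : z ^ p = 1 := by
      have := congrArg (· ^ p) e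
      simp only [conj_pow] at this
      rw [Commute.mul_pow (mem_center_iff.1 hz w).symm, mem_center_iff.1 hw2 g, mul_inv_cancel_right] at this
      simpa using this.symm
    have : ∀ i : ℕ, g ^ i * w * (g ^ i)⁻¹ = z ^ i * w := fun i => by
      induction i with
      | zero => simp
      | succ i ih =>
        calc g ^ (i + 1) * w * (g ^ (i + 1))⁻¹ = g * (g ^ i * w * (g ^ i)⁻¹) * g⁻¹ := by rw [pow_succ']; group
          _ = z ^ i * (g * w * g⁻¹) := by rw [ih, ← mul_assoc, mem_center_iff.1 (pow_mem hz i) g]; group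
          _ = _ := by rw [e, pow_succ, mul_assoc]
    have := this p
    rw [hzp, one_mul, mul_inv_eq_iff_eq_mul] at this
    exact mem_cent_iff.2 this
  · obtain ⟨z, hz, e⟩ := hw3 g hg
    obtain ⟨z', hz', e'⟩ := hw3 k hk
    have a1 : g * k * w * (g * k)⁻¹ = z' * z * w := by
      calc g * k * w * (g * k)⁻¹ = g * (k * w * k⁻¹) * g⁻¹ := by group
        _ = z' * (g * w * g⁻¹) := by rw [e', ← mul_assoc, mem_center_iff.1 hz' g]; group
        _ = _ := by rw [e, mul_assoc]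
    have a2 : k * g * w * (k * g)⁻¹ = z * z' * w := by
      calc k * g * w * (k * g)⁻¹ = k * (g * w * g⁻¹) * k⁻¹ := by group
        _ = z * (k * w * k⁻¹) := by rw [e, ← mul_assoc, mem_center_iff.1 hz k]; group
        _ = _ := by rw [e', mul_assoc]
    have a3 : g * k * g⁻¹ * k⁻¹ * (z * z' * w) * (g * k * g⁻¹ * k⁻¹)⁻¹ = z * z' * w := by
      conv_lhs => rw [← a2]
      rw [mem_center_iff.1 hz' z, ← a1]; group
    rw [← cent_mul_center (mul_mem hz hz'), mem_cent_iff, mem_center_iff.1 (mul_mem hz hz') w]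
    exact mul_inv_eq_iff_eq_mul.1 a3
  · obtain ⟨z, hz, e⟩ := hw3 g hg
    rw [← cj_eq_iff, cj_cent, e, ← mem_center_iff.1 hz w, cent_mul_center hz]

theorem mem_of_index_prime {p : ℕ} (hp : p.Prime) {X : Subgroup G} (hX : X.index = p) {a t g : G} (ha : PE p a)
    (haX : a ∉ X) (hc : a * t = t * a) (ht : t ∈ cj g X) : t ∈ X := by
  haveI := Fact.mk hp
  obtain ⟨k, hk⟩ := IsPGroup.card_orbit ha (α := G ⧸ X) (QuotientGroup.mk 1)
  have h1 : k ≠ 0 := by
    rintro rfl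
    have : Subsingleton (MulAction.orbit (zpowers a) (QuotientGroup.mk 1 : G ⧸ X)) :=
      (Nat.card_eq_one_iff_unique.1 (by simpa using hk)).1
    have e := congrArg Subtype.val (this.elim ⟨_, MulAction.mem_orbit_self _⟩
      ⟨_, MulAction.mem_orbit _ (⟨a, mem_zpowers a⟩ : zpowers a)⟩)
    exact haX (by simpa using QuotientGroup.eq.1 e)
  have h2 : MulAction.orbit (zpowers a) (QuotientGroup.mk 1 : G ⧸ X) = Set.univ := by
    refine Set.eq_univ_of_forall fun y => by_contra fun hy => ?_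
    have := Set.ncard_lt_ncard (t := Set.univ) ⟨Set.subset_univ _, fun hh => hy (hh trivial)⟩
    rw [Set.ncard_univ, ← Nat.card_coe_set_eq, hk, ← index_eq_card, hX] at this
    exact this.not_ge (Nat.le_self_pow h1 p)
  obtain ⟨⟨_, j, rfl⟩, e⟩ := (h2 ▸ Set.mem_univ (QuotientGroup.mk g : G ⧸ X) :
    (QuotientGroup.mk g : G ⧸ X) ∈ MulAction.orbit (zpowers a) (QuotientGroup.mk 1 : G ⧸ X))
  have e1 : (a ^ j)⁻¹ * g ∈ X := by simpa using QuotientGroup.eq.1 e
  have e2 := X.mul_mem (X.mul_mem e1 (mem_cj.1 ht)) (X.inv_mem e1)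
  have e3 : (a ^ j)⁻¹ * g * (g⁻¹ * t * g) * ((a ^ j)⁻¹ * g)⁻¹ = t := by
    have := (Commute.zpow_left hc j).eq
    calc _ = (a ^ j)⁻¹ * (t * a ^ j) := by group
      _ = t := by rw [← this]; group
  exact e3 ▸ e2

structure Cop (G : Type*) [Group G] (m n : ℕ) : Prop extends CS G m (m * n) where
  cop : m.Coprime n
  hm : 1 < m
  exm : ∃ y : G, cs y = m
  exn : ∃ x : G, cs x = m * n

variable {m n p q : ℕ}

theorem Cop.hn (h : Cop G m n) : 1 < n := by
  have := h.lt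
  by_contra hc
  nlinarith

theorem Cop.dvd (h : Cop G m n) {x : G} (hx : x ∉ center G) : m ∣ cs x := by
  rcases h.all x hx with e | e <;> simp [e]

theorem Cop.pi (h : Cop G m n) (hp : p.Prime) (hd : p ∣ m * n) : Pi G p := by
  obtain ⟨x, hx⟩ := h.exn
  exact pi_of_dvd hp (center_le_cent x) (H := ⊤) (by rwa [relIndex_top_right, hx])

theorem Cop.not_mem (h : Cop G m n) {y : G} (hy : cs y = m) : y ∉ center G := fun e =>
  h.hm.ne' (hy.symm.trans (cs_eq_one_iff.2 e))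

theorem Cop.fact (h : Cop G m n) (hn : ¬ p ∣ n) {x : G} (hx : x ∉ center G) :
    (Nat.card C[x]).factorization p + m.factorization p = (Nat.card G).factorization p := by
  rw [← card_mul_index C[x], Nat.factorization_mul Nat.card_pos.ne' index_ne_zero_of_finite, Finsupp.add_apply]
  rcases h.all x hx with e | e
  · rw [e]
  · rw [e, Nat.factorization_mul (by have := h.hm; omega) (by have := h.hn; omega), Finsupp.add_apply,
      Nat.factorization_eq_zero_of_not_dvd hn, add_zero]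

theorem Cop.ppart (h : Cop G m n) (hp : p.Prime) (hn : ¬ p ∣ n) {x y : G} (hx : x ∉ center G) (hy : y ∉ center G)
    {T U : Subgroup G} (hT : SylowIn p T C[y]) (hU : IsPGroup p U) (hle : U ≤ C[x]) (hTU : T ≤ U) : U ≤ T := by
  haveI := Fact.mk hp
  obtain ⟨S, hS⟩ := Transfer.exists_sylowIn (p := p) C[x]
  have h1 := hS.card_le hU hle
  have h2 := h.fact hn hx
  rw [← h.fact hn hy, add_left_inj] at h2
  rw [hS.card_eq_pow, h2, ← hT.card_eq_pow] at h1
  exact (eq_of_le_of_card_ge hTU h1).ge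

theorem pe_mem_of_pxq (hp : p.Prime) (hq : q.Prime) (hpq : p ≠ q) {y : G} (hy : PE p y) {k : ℕ} (hk : cs y = p ^ k)
    (hc : ∀ w ∈ C[y], PE q w → pCore p G ⊓ C[y] ≤ C[w]) {v : G} (hv : PE q v) :
    v ∈ centralizer (pCore p G : Set G) := by
  haveI := Fact.mk hp
  haveI := Fact.mk hq
  obtain ⟨Q, hQ⟩ := Transfer.exists_sylowIn (p := q) C[y]
  have h1 : Q ≤ centralizer (pCore p G : Set G) := by
    refine Coprime.thompson_PxQ hy (Core.coprime_card_of_isPGroup hq hQ.isPGroup ((Nat.coprime_primes hp hq).2 hpq))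
      (Core.isPGroup_pCore p G) (zpowers_le.2 fun w hw => mem_cent_iff.1 (hQ.le hw)) le_normalizer_of_normal
      le_normalizer_of_normal fun a ha w hw => ?_
    exact (mem_cent_iff.1 (hc w (hQ.le hw) (isPGroup_zpowers_of_mem hQ.isPGroup hw)
      ⟨ha.1, (mem_cent_iff.2 (ha.2 y (mem_zpowers y)).symm)⟩)).symm
  by_contra hvc
  have h2 := dvd_relIndex_of_pe hq (H := ⊤) le_normalizer_of_normal (mem_top v) hvc hv
  rw [relIndex_top_right] at h2
  have h3 := h2.trans (index_dvd_of_le h1)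
  rw [← relIndex_mul_index hQ.le, hk] at h3
  rcases (Nat.Prime.dvd_mul hq).1 h3 with h4 | h4
  · exact hQ.not_dvd h4
  · exact hpq ((Nat.prime_dvd_prime_iff_eq hq hp).1 (hq.dvd_of_dvd_pow h4)).symm

theorem cent_of_forall_not_dvd {H : Type*} [Group H] [Finite H] [hp : Fact p.Prime] (P : Sylow p H)
    (h : ∀ x : H, (orderOf x).Coprime p → ¬ p ∣ cs x) {w : H} (hw : (orderOf w).Coprime p) :
    w ∈ centralizer ((P : Subgroup H) : Set H) := by
  have h1 := sylow_sup_centralizer_eq_top P h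
  have h2 : (P : Subgroup H) ≤ normalizer ((centralizer ((P : Subgroup H) : Set H) : Subgroup H) : Set H) :=
    Core.le_normalizer_centralizer le_normalizer
  haveI : (centralizer ((P : Subgroup H) : Set H)).Normal := by
    rw [← normalizer_eq_top_iff, eq_top_iff, ← h1]; exact sup_le h2 le_normalizer
  refine Hall.mem_of_pow_mem_of_coprime ?_ (pow_index_mem _ w)
  rw [← relIndex_top_right, ← h1, relIndex_sup_right]
  obtain ⟨k, hk⟩ := P.isPGroup'.exists_card_eq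
  exact ((hw.pow_right k).coprime_dvd_right (hk ▸ relIndex_dvd_card _ _)).symm

theorem Cop.alpha (h : Cop G m n) (hF : NF G m (m * n)) (hp : p.Prime) (hq : Pi G q) (hpq : p ≠ q) {k : ℕ}
    (hm : m = p ^ k) {y : G} (hpy : PE p y) (hy : cs y = m) : False := by
  haveI := Fact.mk hp
  have hyc := h.not_mem hy
  have hpm : p ∣ m := hm ▸ dvd_pow_self p (by rintro rfl; exact h.hm.ne' hm)
  have hn : ¬ p ∣ n := fun e => hp.ne_one (Nat.eq_one_of_dvd_coprimes h.cop hpm e)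
  obtain ⟨T, hT⟩ := Transfer.exists_sylowIn (p := p) C[y]
  have key : ∀ w ∈ C[y], PE q w → T ≤ C[w] := fun w hw hpw => by
    have := cent_of_forall_not_dvd hT.toSylow (w := ⟨w, hw⟩) (fun x hx => ?_) (by
      rw [← Subgroup.orderOf_coe]
      exact coprime_orderOf_of_isPGroup hq.1 hpw ((Nat.coprime_primes hp hq.1).2 hpq))
    · intro t ht
      exact mem_cent_iff.2 (congrArg Subtype.val (this ⟨t, hT.le ht⟩ (by rw [hT.coe_toSylow]; exact ht)))
    · rw [cs_coe_eq_relIndex]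
      by_cases hH : C[y] ≤ C[(x : G)]
      · rw [relIndex_eq_one.2 hH, Nat.dvd_one]; exact hp.ne_one
      · obtain ⟨e, -, e1, -⟩ := h.inf_small hyc x.2 hH (coprime_orderOf_of_isPGroup hp hpy (by
          rwa [Subgroup.orderOf_coe]))
        rw [e, ← relIndex_mul_index inf_le_left, hy, inf_relIndex_left, mul_comm] at e1
        rwa [Nat.eq_of_mul_eq_mul_left (by have := h.hm; omega) e1]
  have hO : pCore p G ⊓ C[y] ≤ T := hT.le_of_le_normalizer ((Core.isPGroup_pCore p G).to_inf_left) inf_le_right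
    (Core.le_normalizer_inf le_normalizer_of_normal (hT.le.trans le_normalizer))
  obtain ⟨P, hP⟩ := hT.isPGroup.exists_le_sylow
  have : ¬ (P : Subgroup G) ≤ C[y] := fun e => not_dvd_index_of_sylow_le P e (hy ▸ hpm)
  obtain ⟨g, hg, hgy⟩ := SetLike.not_le_iff_exists.1 this
  obtain ⟨v, hv, hvc, hpv⟩ := hF.exists_pe hq (z := g) fun e => hgy (center_le_cent y e)
  have hvy : v ∈ C[y] := mem_cent_iff.2 (pe_mem_of_pxq hp hq.1 hpq hpy (hy.trans hm)
    (fun w hw hpw => hO.trans (key w hw hpw)) hpv y (mem_pCore_of_cs_eq_pow hp hpy (hy.trans hm))).symm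
  exact hgy (hT.le (h.ppart hp hn hvc hyc hT (U := T ⊔ zpowers g) (P.isPGroup'.to_le (sup_le hP (zpowers_le.2 hg)))
    (sup_le (key v hvy hpv) (zpowers_le.2 (mem_cent_comm.1 hv))) le_sup_left (mem_sup_right (mem_zpowers g))))

theorem Cop.eq_p (h : Cop G m n) (hF : NF G m (m * n)) (hp : p.Prime) (hq : Pi G q) (hpq : p ≠ q) {k : ℕ}
    (hm : m = p ^ k) (hs : ∀ x : G, x ∉ center G → PE p x → cs x = m * n) : m = p := by
  haveI := Fact.mk hp
  have hpm : p ∣ m := hm ▸ dvd_pow_self p (by rintro rfl; exact h.hm.ne' hm)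
  have hn : ¬ p ∣ n := fun e => hp.ne_one (Nat.eq_one_of_dvd_coprimes h.cop hpm e)
  obtain ⟨P⟩ := (inferInstance : Nonempty (Sylow p G))
  have hP : ∀ x : G, x ∉ center G → ¬ (P : Subgroup G) ≤ C[x] := fun x hx e =>
    not_dvd_index_of_sylow_le P e (hpm.trans (h.dvd hx))
  obtain ⟨y, hy⟩ := h.exm
  obtain ⟨w, hw, hwc, h1, h2, h3⟩ := exists_cmod hp P.isPGroup' (X := ⊤) le_normalizer_of_normal fun e =>
    hP y (h.not_mem hy) ((le_inf le_rfl le_top).trans (e.trans (center_le_cent y)))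
  have hpw := isPGroup_zpowers_of_mem P.isPGroup' hw.1
  have hr : C[w].relIndex (P ⊔ C[w]) = C[w].relIndex P := Core.relIndex_sup_of_le_normalizer h3
  have hcen : ∀ v ∈ C[w], PE q v → C[w] ≤ C[v] := fun v hv hpv =>
    h.cen_of hwc (hs w hwc hpw) hv (PE.coprime hp hq.1 hpq hpw hpv)
  have hC : Cen (P ⊔ C[w]) C[w] q := by
    refine ⟨le_sup_right, ?_, hcen, fun v hv hpv hH => ?_⟩
    · obtain ⟨v, hv, hvc, hpv⟩ := hF.exists_pe hq hwc
      exact ⟨v, hv, hpv, fun e => hP v hvc (le_sup_left.trans e)⟩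
    · have hvc : v ∉ center G := fun e => hH (by rw [cent_eq_top_iff.2 e]; exact le_top)
      rcases h.all v hvc with e | e
      · have a1 := relIndex_mul_index (hcen v hv hpv)
        rw [hs w hwc hpw, e, mul_comm] at a1
        have a2 := Nat.eq_of_mul_eq_mul_left (by have := h.hm; omega) a1
        obtain ⟨j, hj⟩ := P.isPGroup'.exists_card_eq
        have a3 : (C[w].relIndex (P ⊔ C[w])).Coprime (C[w].relIndex C[v]) := by
          rw [hr, a2]
          exact (((Nat.Prime.coprime_iff_not_dvd hp).2 hn).pow_left j).coprime_dvd_left (hj ▸ relIndex_dvd_card _ _)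
        refine relIndex_eq_one.1 (Nat.eq_one_of_dvd_coprimes a3 ?_ ?_)
        · exact Dvd.intro _ (relIndex_mul_relIndex _ _ _ (le_inf le_sup_right (hcen v hv hpv)) inf_le_left)
        · exact Dvd.intro _ (relIndex_mul_relIndex _ _ _ (le_inf le_sup_right (hcen v hv hpv)) inf_le_right)
      · exact inf_le_right.trans (eq_of_le_of_index_le (hcen v hv hpv) (by rw [e, hs w hwc hpw])).ge
  have e1 := hC.relIndex_eq hp hq.1 hpq (le_inf le_sup_left h3) h1 h2 (hP w hwc)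
  have e2 := relIndex_mul_index (le_sup_right : C[w] ≤ (P : Subgroup G) ⊔ C[w])
  rw [hr, e1, hs w hwc hpw, hm] at e2
  have e3 : p ^ k ∣ p := ((Nat.Prime.coprime_iff_not_dvd hp).2
    (not_dvd_index_of_sylow_le P le_sup_left)).pow_left k |>.dvd_of_dvd_mul_right (Dvd.intro _ e2.symm)
  exact Nat.dvd_antisymm (hm ▸ e3) hpm

theorem Cop.normal (h : Cop G m n) (hF : NF G m (m * n)) (hp : Pi G p) (hq : q.Prime) (hpq : p ≠ q)
    (hpi : ∀ r, Pi G r → r = p ∨ r = q) (hm : m = p) (hs : ∀ x : G, x ∉ center G → PE p x → cs x = m * n)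
    {y : G} (hpy : PE q y) (hy : cs y = m) : C[y].Normal := by
  refine ⟨fun t ht g => ?_⟩
  suffices H : C[y] ≤ cj g⁻¹ C[y] by simpa [mem_cj] using H ht
  have hi : (cj g⁻¹ C[y]).index = p := by rw [index_cj, hy, hm]
  have hcj : ∀ t ∈ C[y], t ∈ cj g (cj g⁻¹ C[y]) := fun t ht => by rwa [cj_cj_inv]
  refine le_of_forall_isPGroup fun r hr t ht hpt => ?_
  by_cases htc : t ∈ center G
  · rw [cj_cent]; exact center_le_cent _ htc
  rcases hpi r ⟨hr, t, htc, hpt⟩ with rfl | rfl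
  · by_contra hc
    exact hc (mem_of_index_prime hr hi hpt hc rfl (hcj t ht))
  · obtain ⟨u, hu, huc, hpu⟩ := hF.exists_pe hp htc
    by_cases hc : u ∈ cj g⁻¹ C[y]
    · rw [cj_cent] at hc ⊢
      exact h.cen_of huc (hs u huc hpu) (mem_cent_comm.1 hc) (PE.coprime hp.1 hq hpq hpu (hpy.conj _))
        (mem_cent_comm.1 hu)
    · exact mem_of_index_prime hp.1 hi hpu hc (mem_cent_iff.1 hu) (hcj t ht)

theorem Cop.beta (h : Cop G m n) (hF : NF G m (m * n)) (hp : Pi G p) (hq : Pi G q) (hpq : p ≠ q)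
    (hpi : ∀ r, Pi G r → r = p ∨ r = q) (hm : m = p) (hs : ∀ x : G, x ∉ center G → PE p x → cs x = m * n) :
    False := by
  have hn : ¬ p ∣ n := fun e => hp.1.ne_one (Nat.eq_one_of_dvd_coprimes h.cop (hm ▸ dvd_rfl) e)
  obtain ⟨y₀, hy₀⟩ := h.exm
  obtain ⟨r, hr, y, hy1, hpy, hyc⟩ := exists_pPart_not_mem (h.not_mem hy₀)
  have hy : cs y = m := by rw [← h.eq_of_large hy₀ hyc (cent_le_of_mem_zpowers hy1), hy₀]
  obtain rfl : r = q := (hpi r ⟨hr, y, hyc, hpy⟩).resolve_left fun e => h.lt.ne (hy.symm.trans (hs y hyc (e ▸ hpy)))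
  haveI := h.normal hF hp hr hpq hpi hm hs hpy hy
  obtain ⟨g, -, hgy, hpg⟩ := exists_pe_of_dvd hp.1 (X := C[y]) (H := ⊤) (by rw [relIndex_top_right, hy, hm])
  have hgc : g ∉ center G := fun e => hgy (center_le_cent y e)
  obtain ⟨v, hv, hvc, hpv⟩ := hF.exists_pe hq hgc
  have hvy : v ∈ C[y] := by
    by_contra hc
    have := dvd_relIndex_of_pe hr (H := ⊤) le_normalizer_of_normal (mem_top v) hc hpv
    rw [relIndex_top_right, hy, hm] at this
    exact hpq ((Nat.prime_dvd_prime_iff_eq hr hp.1).1 this).symm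
  have hgv := h.cen_of hgc (hs g hgc hpg) hv (PE.coprime hp.1 hr hpq hpg hpv)
  have hv1 : cs v = m := (h.small_of_ne hvc hgv fun e => hgy (mem_cent_comm.1 (e ▸ mem_cent_comm.1 hvy))).2
  haveI := h.normal hF hp hr hpq hpi hm hs hpv hv1
  have hne : C[y] ≠ C[v] := fun e => hgy (e ▸ mem_cent_comm.1 hv)
  have c : y * v = v * y := (mem_cent_iff.1 hvy).symm
  have hyv : y * v ∉ center G := fun e => hne (by
    rw [← cent_mul_center (x := y) (inv_mem e), ← cent_inv v]; congr 2; rw [c]; group)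
  obtain ⟨u, hu, huc, hpu⟩ := hF.exists_pe hp hyv
  have hcj : ∀ z : G, C[z].Normal → C[u * z * u⁻¹] = C[z] := fun z _ => by rw [← cj_cent, cj_eq_of_normal]
  have cy : Commute (u * y * u⁻¹) y := mem_cent_iff.1 (mem_cent_comm.1 ((hcj y ‹_›).ge (self_mem_cent y)))
  have e1 : y⁻¹ * (u * y * u⁻¹) = v * (u * v * u⁻¹)⁻¹ := by
    have := mem_cent_iff.1 hu
    calc y⁻¹ * (u * y * u⁻¹) = y⁻¹ * (u * (y * v) * u⁻¹) * (u * v * u⁻¹)⁻¹ := by group
      _ = _ := by rw [this]; group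
  have hsc : y⁻¹ * (u * y * u⁻¹) ∈ center G := by
    by_contra hc
    refine hne ((h.eq_of_large hy hc (le_trans ?_ (cent_inf_le_mul _ _))).trans
      (h.eq_of_large hv1 hc (e1 ▸ le_trans ?_ (cent_inf_le_mul _ _))).symm)
    · rw [cent_inv, hcj y ‹_›, inf_idem]
    · rw [cent_inv, hcj v ‹_›, inf_idem]
  have hps : PE r (y⁻¹ * (u * y * u⁻¹)) := by
    obtain ⟨j, hj⟩ := Core.isPGroup_iff_forall_mem.1 hpy y (mem_zpowers y)
    exact Core.isPGroup_zpowers_of_pow_eq_one (k := j) (by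
      rw [cy.symm.inv_left.mul_pow, conj_pow, inv_pow, hj]; simp)
  have e2 := eq_of_conj_mem_center hr hp.1 hpq.symm hpu hps hsc (t := y) (by group)
  have huy : u ∈ C[y] := mem_cent_iff.2 (by rw [inv_mul_eq_one, eq_mul_inv_iff_mul_eq] at e2; exact e2.symm)
  have huv : u ∈ C[v] := mem_cent_iff.2 (by
    rw [e2, eq_comm, mul_inv_eq_one, eq_mul_inv_iff_mul_eq] at e1; exact e1.symm)
  have h1 := index_dvd_of_le (le_inf
    (h.cen_of huc (hs u huc hpu) (mem_cent_comm.1 huy) (PE.coprime hp.1 hr hpq hpu hpy))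
    (h.cen_of huc (hs u huc hpu) (mem_cent_comm.1 huv) (PE.coprime hp.1 hr hpq hpu hpv)))
  rw [hs u huc hpu, ← relIndex_mul_index inf_le_right, inf_relIndex_right, hv1, mul_comm] at h1
  exact hn ((dvd_relIndex_of_pe hp.1 le_normalizer_of_normal (mem_cent_comm.1 hv) hgy hpg).trans
    (Nat.dvd_of_mul_dvd_mul_left (by have := h.hm; omega) h1))

theorem Cop.isF (h : Cop G m n) : IsF G := by
  by_contra hF
  have hF := NF.of_not h.toCS hF
  rcases three_or (G := G) with h3 | ⟨a, b, -, -, hab⟩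
  · exact hF.false_of_three h3
  have hp := h.pi (Nat.minFac_prime h.hm.ne') ((Nat.minFac_dvd m).mul_right n)
  have hq := h.pi (Nat.minFac_prime h.hn.ne') ((Nat.minFac_dvd n).mul_left m)
  have hc : ∀ {r}, r.Prime → r ∣ m → ¬ r ∣ n := fun hr h1 h2 => hr.ne_one (Nat.eq_one_of_dvd_coprimes h.cop h1 h2)
  have hpq : m.minFac ≠ n.minFac := fun e => hc hp.1 (Nat.minFac_dvd m) (e ▸ Nat.minFac_dvd n)
  have hpi : ∀ r, Pi G r → r = m.minFac ∨ r = n.minFac := fun r hr => by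
    have := hab _ hr; have := hab _ hp; have := hab _ hq; omega
  have hm := Nat.eq_prime_pow_of_unique_prime_dvd (n := m) (p := m.minFac) (by have := h.hm; omega)
    fun {r} hr hd => (hpi r (h.pi hr (hd.mul_right n))).resolve_right fun e => hc hr hd (e ▸ Nat.minFac_dvd n)
  have hs : ∀ x : G, x ∉ center G → PE m.minFac x → cs x = m * n := fun x hx hpx =>
    (h.all x hx).resolve_left (h.alpha hF hp.1 hq hpq hm hpx)
  exact h.beta hF hp hq hpq hpi (h.eq_p hF hp.1 hq hpq hm hs) hs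

theorem IsF.le (hF : IsF G) {t w : G} (ht : t ∉ center G) (hw : w ∈ C[t]) (hc : (orderOf t).Coprime (orderOf w)) :
    C[t] ≤ C[w] := by
  have e := cent_mul_of_coprime (mem_cent_iff.1 hw).symm hc
  rw [← hF (t * w) t ht (e ▸ inf_le_left), e]; exact inf_le_right

theorem Cop.exists_pe (h : Cop G m n) {y : G} (hy : cs y = m) (hp : Pi G p) : ∃ t ∈ C[y], t ∉ center G ∧ PE p t := by
  obtain ⟨t, ht, hpt⟩ := hp.2
  refine exists_pe_of_dvd hp.1 ((dvd_relIndex_of_pe hp.1 le_normalizer_of_normal (self_mem_cent t) ht hpt).trans ?_)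
  obtain ⟨c, hc⟩ := h.dvd ht
  have e := relIndex_mul_index (center_le_cent t)
  rw [← relIndex_mul_index (center_le_cent y), hc, hy, mul_comm m, ← mul_assoc] at e
  exact Dvd.intro _ (Nat.eq_of_mul_eq_mul_right (by have := h.hm; omega) e)

theorem Cop.pi_m (h : Cop G m n) : Pi G m.minFac := h.pi (Nat.minFac_prime h.hm.ne') ((Nat.minFac_dvd m).mul_right n)

theorem Cop.pi_n (h : Cop G m n) : Pi G n.minFac := h.pi (Nat.minFac_prime h.hn.ne') ((Nat.minFac_dvd n).mul_left m)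

theorem Cop.ne (h : Cop G m n) : m.minFac ≠ n.minFac := fun e =>
  h.pi_m.1.ne_one (Nat.eq_one_of_dvd_coprimes h.cop (Nat.minFac_dvd m) (e ▸ Nat.minFac_dvd n))

theorem Cop.abel (h : Cop G m n) {y v : G} (hy : cs y = m) (hv : v ∈ C[y]) : C[y] ≤ C[v] := by
  obtain ⟨r, hr, t, ht, hpt, htc⟩ := exists_pPart_not_mem (h.not_mem hy)
  have e := h.eq_of_large hy htc (cent_le_of_mem_zpowers ht)
  obtain ⟨s, hs, hrs⟩ : ∃ s, Pi G s ∧ r ≠ s := by
    by_cases hr : r = m.minFac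
    · exact ⟨_, h.pi_n, hr ▸ h.ne⟩
    · exact ⟨_, h.pi_m, hr⟩
  obtain ⟨u, hu, huc, hpu⟩ := h.exists_pe hy hs
  have e' := h.eq_of_large hy huc (e ▸ h.isF.le htc (e ▸ hu) (PE.coprime hr hs.1 hrs hpt hpu))
  refine le_cent_iff.2 (le_of_forall_isPGroup (H := C[y]) (fun l hl w hw hpw => le_cent_iff.1 ?_) hv)
  by_cases hlr : r = l
  · rw [e'] at hw ⊢
    exact h.isF.le huc hw (PE.coprime hs.1 hl (fun e => hrs (hlr.trans e.symm)) hpu hpw)
  · rw [e] at hw ⊢
    exact h.isF.le htc hw (PE.coprime hr hl hlr hpt hpw)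

theorem Cop.cen (h : Cop G m n) {y : G} (hy : cs y = m) (hp : Pi G p) : Cen ⊤ C[y] p := by
  refine ⟨le_top, ?_, fun v hv _ => h.abel hy hv, fun v hv _ hH => inf_le_right.trans (h.eq_of_large hy (fun e => hH (by
    rw [cent_eq_top_iff.2 e])) (h.abel hy hv)).ge⟩
  obtain ⟨t, ht, htc, hpt⟩ := h.exists_pe hy hp
  exact ⟨t, ht, hpt, fun e => htc (cent_eq_top_iff.1 (top_le_iff.1 e))⟩

theorem Cop.pow (h : Cop G m n) : ∃ k, m = m.minFac ^ k := by
  obtain ⟨y, hy⟩ := h.exm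
  refine ⟨_, Nat.eq_prime_pow_of_unique_prime_dvd (by have := h.hm; omega) fun {r} hr hd => by_contra fun hne => ?_⟩
  exact (h.cen hy (h.pi hr (hd.mul_right n))).not_dvd (h.cen hy h.pi_m) hr h.pi_m.1 hne
    (by rwa [relIndex_top_right, hy]) (by rw [relIndex_top_right, hy]; exact Nat.minFac_dvd m)

theorem Cop.pcore (h : Cop G m n) {y : G} (hy : cs y = m) :
    C[y] = centralizer (pCore m.minFac G : Set G) ∧ pCore m.minFac G ≤ C[y] ∧ ¬ pCore m.minFac G ≤ center G := by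
  obtain ⟨k, hk⟩ := h.pow
  obtain ⟨t, ht, htc, hpt⟩ := h.exists_pe hy h.pi_m
  obtain ⟨v, hv, hvc, hpv⟩ := h.exists_pe hy h.pi_n
  have e := h.eq_of_large hy htc (h.abel hy ht)
  have ht1 : cs t = m := e ▸ hy
  have hO := mem_pCore_of_cs_eq_pow h.pi_m.1 hpt (ht1.trans hk)
  have h1 : pCore m.minFac G ≤ C[y] := by
    rw [h.eq_of_large hy hvc (h.abel hy hv), le_cent_iff]
    exact pe_mem_of_pxq h.pi_m.1 h.pi_n.1 h.ne hpt (ht1.trans hk)
      (fun w hw _ => inf_le_right.trans (h.abel ht1 hw)) hpv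
  refine ⟨le_antisymm (fun a ha b hb => (mem_cent_iff.1 (h.abel hy (h1 hb) ha)).symm) ?_, h1, fun e => htc (e hO)⟩
  rw [e]; exact centralizer_le (Set.singleton_subset_iff.2 hO)

theorem Cop.normal' (h : Cop G m n) {y : G} (hy : cs y = m) : C[y].Normal := by
  rw [(h.pcore hy).1]; infer_instance

theorem Cop.prime (h : Cop G m n) : m = m.minFac := by
  obtain ⟨k, hk⟩ := h.pow
  obtain ⟨y, hy⟩ := h.exm
  have hp := h.pi_m.1
  haveI := Fact.mk hp
  haveI := h.normal' hy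
  obtain ⟨P⟩ := (inferInstance : Nonempty (Sylow m.minFac G))
  obtain ⟨w, hw, hwc, h1, h2, -⟩ := exists_cmod hp P.isPGroup' (X := C[y]) le_normalizer_of_normal fun e =>
    (h.pcore hy).2.2 ((le_inf (Core.pCore_le_sylow P) (h.pcore hy).2.1).trans e)
  rw [← h.eq_of_large hy hwc (h.abel hy hw.2)] at h1 h2
  have e1 := (h.cen hy h.pi_n).relIndex_eq hp h.pi_n.1 h.ne (le_inf le_top le_normalizer_of_normal) h1 h2
    fun e => not_dvd_index_of_sylow_le P e (hy ▸ Nat.minFac_dvd m)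
  have e2 := relIndex_mul_index (le_sup_right : C[y] ≤ (P : Subgroup G) ⊔ C[y])
  rw [relIndex_sup_right, e1, hy] at e2
  have e3 : m.minFac ^ k ∣ m.minFac := ((Nat.Prime.coprime_iff_not_dvd hp).2
    (not_dvd_index_of_sylow_le P le_sup_left)).pow_left k |>.dvd_of_dvd_mul_right (Dvd.intro _ (by rw [mul_one, e2]; exact hk.symm))
  exact Nat.dvd_antisymm (by rwa [← hk] at e3) (Nat.minFac_dvd m)

theorem Cop.inf_eq (h : Cop G m n) {y g : G} (hy : cs y = m) (hg : g ∉ C[y]) : C[y] ⊓ C[g] = center G :=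
  le_antisymm (fun _ ⟨h1, h2⟩ => by_contra fun hc => hg (h.eq_of_large hy hc (h.abel hy h1) ▸ mem_cent_comm.1 h2))
    (le_inf (center_le_cent _) (center_le_cent _))

theorem Cop.relIndex (h : Cop G m n) {y : G} (hy : cs y = m) : (center G).relIndex C[y] = m * n := by
  haveI := h.normal' hy
  obtain ⟨g, hg⟩ := h.exn
  have hgy : g ∉ C[y] := fun e => by
    have := Nat.le_of_dvd (cs_pos y) (index_dvd_of_le (h.abel hy e))
    rw [hy, hg] at this
    exact h.lt.not_ge this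
  have e1 : (center G).relIndex C[g] = m := by
    rw [← h.inf_eq hy hgy, inf_relIndex_right]
    refine ((Nat.dvd_prime (h.prime ▸ h.pi_m.1)).1 (hy ▸ relIndex_dvd_index_of_normal _ _)).resolve_left fun e => ?_
    exact hgy (relIndex_eq_one.1 e (self_mem_cent g))
  have e := relIndex_mul_index (center_le_cent g)
  rw [← relIndex_mul_index (center_le_cent y), e1, hg, hy, mul_comm] at e
  exact (Nat.eq_of_mul_eq_mul_right (by have := h.hm; omega) e).symm

theorem Cop.compl (h : Cop G m n) : m ∣ n - 1 ∧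
    ∃ N : Subgroup G, N.Normal ∧ (Nat.card N).Coprime m ∧ ∃ a : ℕ, N.index = m ^ a := by
  obtain ⟨y, hy⟩ := h.exm
  have hp : m.Prime := h.prime ▸ h.pi_m.1
  haveI := Fact.mk hp
  haveI := h.normal' hy
  haveI : IsMulCommutative C[y] := ⟨⟨fun a b => Subtype.ext (mem_cent_iff.1 (h.abel hy b.2 a.2))⟩⟩
  haveI : Group.IsNilpotent C[y] := by
    letI : CommGroup C[y] := { (inferInstance : Group C[y]) with mul_comm := fun a b => mul_comm' a b }
    infer_instance
  obtain ⟨N, hN⟩ : ∃ N, N = (pPrimeCore m C[y]).map C[y].subtype := ⟨_, rfl⟩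
  have hNn : N.Normal := by
    rw [← normalizer_eq_top_iff, eq_top_iff, hN]
    exact le_normalizer_of_normal.trans (Core.normalizer_le_normalizer_pPrimeCoreOf _)
  have hNc : (Nat.card N).Coprime m := hN ▸ Core.coprime_card_pPrimeCoreOf _
  have hNA : N ≤ C[y] := hN ▸ Core.pPrimeCoreOf_le _
  obtain ⟨j, hj⟩ : ∃ j, N.relIndex C[y] = m ^ j := by
    obtain ⟨k, hk⟩ := (Core.isPGroup_pCoreOf (p := m) C[y]).exists_card_eq
    have := relIndex_dvd_card N ((pCore m C[y]).map C[y].subtype)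
    rw [← relIndex_sup_right, hk] at this
    nth_rw 2 [hN] at this
    rw [Core.pCoreOf_sup_pPrimeCoreOf_of_nilpotent hp] at this
    obtain ⟨j, -, hj⟩ := (Nat.dvd_prime_pow hp).1 this
    exact ⟨j, hj⟩
  refine ⟨?_, N, hNn, hNc, j + 1, by rw [← relIndex_mul_index hNA, hj, hy, pow_succ]⟩
  have e1 : (center G).relIndex N = n := by
    have a1 := relIndex_mul_relIndex (center G) (N ⊔ center G) C[y] le_sup_right (sup_le hNA (center_le_cent y))
    rw [relIndex_sup_right, h.relIndex hy] at a1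
    obtain ⟨i, -, hi⟩ := (Nat.dvd_prime_pow hp).1 (hj ▸ relIndex_dvd_of_le_left C[y] (le_sup_left : N ≤ N ⊔ center G))
    rw [hi] at a1
    exact Nat.dvd_antisymm ((hNc.coprime_dvd_left (relIndex_dvd_card _ _)).dvd_of_dvd_mul_left (Dvd.intro _ a1))
      ((h.cop.symm.pow_right i).dvd_of_dvd_mul_right (a1 ▸ Dvd.intro_left _ rfl))
  obtain ⟨g, -, hgy, hpg⟩ := exists_pe_of_dvd hp (X := C[y]) (H := ⊤) (by rw [relIndex_top_right, hy])
  have e2 := PGrp.card_modEq_card_inf_centralizer hpg (H := N) le_normalizer_of_normal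
  have e3 : N ⊓ centralizer (zpowers g : Set G) = N ⊓ center G := by
    rw [Core.centralizer_zpowers, ← h.inf_eq hy hgy, ← inf_assoc, inf_eq_left.2 hNA]
  have e4 := Transfer.card_mul_relIndex (inf_le_left : N ⊓ center G ≤ N)
  rw [inf_relIndex_left, e1] at e4
  rw [e3, ← e4] at e2
  have e5 : (Nat.card ↥(N ⊓ center G)).Coprime m := hNc.coprime_dvd_left (card_dvd_of_le inf_le_left)
  exact (Nat.modEq_iff_dvd' h.hn.le).1 (Nat.ModEq.cancel_left_of_coprime e5.symm (by rw [mul_one]; exact e2.symm))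

theorem Cop.comm (h : Cop G m n) (P : Sylow m G) : Nat.card (_root_.commutator (P : Subgroup G)) = m := by
  obtain ⟨y, hy⟩ := h.exm
  have hp : m.Prime := h.prime ▸ h.pi_m.1
  haveI := Fact.mk hp
  haveI := h.normal' hy
  have : ¬ (P : Subgroup G) ≤ C[y] := fun e => not_dvd_index_of_sylow_le P e (by rw [hy])
  obtain ⟨g, hg, hgy⟩ := SetLike.not_le_iff_exists.1 this
  have h1 : C[y].subgroupOf P ⊔ zpowers ⟨g, hg⟩ = ⊤ := by
    have a1 : (C[y].subgroupOf P).index ∣ m := (relIndex_dvd_index_of_normal _ _).trans hy.dvd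
    rw [← index_eq_one]
    refine ((Nat.dvd_prime hp).1 ((index_dvd_of_le le_sup_left).trans a1)).resolve_right fun e => hgy ?_
    exact (eq_of_le_of_index_le (X := C[y].subgroupOf P) le_sup_left (by rw [e]; exact Nat.le_of_dvd hp.pos a1)).ge
      (mem_sup_right (mem_zpowers (⟨g, hg⟩ : (P : Subgroup G))))
  have h2 := PGrp.card_commutator_mul
    ⟨⟨fun a b => Subtype.ext (Subtype.ext (mem_cent_iff.1 (h.abel hy b.2 a.2)))⟩⟩ h1
  have h3 := Transfer.card_mul_relIndex (inf_le_left : C[y].subgroupOf P ⊓ C[(⟨g, hg⟩ : (P : Subgroup G))] ≤ _)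
  rw [← h2, mul_comm] at h3
  rw [← Nat.eq_of_mul_eq_mul_right Nat.card_pos h3, ← cent_subgroupOf,
    show C[y].subgroupOf P ⊓ C[g].subgroupOf P = (C[y] ⊓ C[g]).subgroupOf P from rfl, h.inf_eq hy hgy,
    ← inf_subgroupOf_right C[y], relIndex_subgroupOf inf_le_right]
  obtain ⟨k, hk⟩ := (P.isPGroup'.to_inf_right (H := C[y])).exists_card_eq
  obtain ⟨i, -, hi⟩ := (Nat.dvd_prime_pow hp).1 (hk ▸ relIndex_dvd_card (center G) (C[y] ⊓ P))
  have a2 := Core.relIndex_dvd_relIndex_of_le_right (center G) (inf_le_left : C[y] ⊓ P ≤ C[y])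
  rw [h.relIndex hy, hi] at a2
  rw [hi]
  refine ((Nat.dvd_prime hp).1 ((h.cop.pow_left i).dvd_of_dvd_mul_right a2)).resolve_left fun e => ?_
  have a3 := h.pcore hy
  rw [← h.prime] at a3
  exact a3.2.2 ((le_inf a3.2.1 (Core.pCore_le_sylow P)).trans (relIndex_eq_one.1 (hi.trans e)))

end Cfsg.Lib.CS3
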