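import Cfsg.Agent.Lib.CS3.NF
import Cfsg.Agent.S4248
import Cfsg.Agent.S4249
import Cfsg.Agent.Lib.FG.PGL2Iso
import Cfsg.Agent.Lib.BN.SzPartition
import Cfsg.Agent.Lib.BN.SzModel
import Cfsg.Agent.Lib.BS.Thompson
import Cfsg.Agent.Lib.Hall.FC1
import Cfsg.Agent.Lib.Hall.SolvCrit
import Cfsg.Agent.Lib.FT.Sec14d

/-! # Ito's theorem: a group with at most three class sizes is solvable -/

set_option autoImplicit false
set_option linter.unusedSectionVars false

namespace Cfsg.Lib.CS3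

open Subgroup Cfsg.Lib.Hall Cfsg.Lib.Transfer

variable {G : Type*} [Group G] [Finite G] {m n : ℕ}

/-- no element of order `s` commutes with `y` -/
def Sep {H : Type*} [Group H] (x y : H) : Prop :=
  ∃ s : ℕ, s.Prime ∧ s ∣ orderOf x ∧ ∀ z : H, Commute z y → orderOf z ≠ s

/-- three elements whose centralisers are separated -/
def Tri (H : Type*) [Group H] : Prop := ∃ a b c : H, c ≠ 1 ∧ Sep a b ∧ Sep a c ∧ Sep b c

theorem Sep.map {H H' : Type*} [Group H] [Group H'] (e : H ≃* H') {x y : H} (h : Sep x y) : Sep (e x) (e y) := by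
  obtain ⟨s, hs, h1, h2⟩ := h
  refine ⟨s, hs, by rwa [e.orderOf_eq], fun z hz => ?_⟩
  obtain ⟨z, rfl⟩ := e.surjective z
  rw [e.orderOf_eq]
  exact h2 z (e.injective (by simpa using hz.eq))

theorem Tri.of_equiv {H H' : Type*} [Group H] [Group H'] (e : H' ≃* H) (h : Tri H) : Tri H' := by
  obtain ⟨a, b, c, h0, h1, h2, h3⟩ := h
  exact ⟨e.symm a, e.symm b, e.symm c, by simpa using h0, h1.map _, h2.map _, h3.map _⟩

theorem Sep.ne {x y : G} (h : Sep (x : G ⧸ center G) (y : G ⧸ center G)) : x ∉ center G ∧ cs x ≠ cs y := by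
  obtain ⟨s, hs, h1, h2⟩ := h
  haveI := Fact.mk hs
  refine ⟨fun c => hs.ne_one ?_, fun e => ?_⟩
  · rwa [(QuotientGroup.eq_one_iff x).2 c, orderOf_one, Nat.dvd_one] at h1
  have d : s ∣ Nat.card (C[y].map (QuotientGroup.mk' (center G))) := by
    rw [Core.card_map_mk'_eq_relIndex, ← relIndex_eq_of_index_eq (center_le_cent x) (center_le_cent y) e,
      ← Core.card_map_mk'_eq_relIndex]
    exact h1.trans (orderOf_dvd_natCard _ (mem_map_of_mem _ (self_mem_cent x)))
  obtain ⟨z, hz⟩ := exists_prime_orderOf_dvd_card' s d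
  exact h2 z (mem_cent_iff.1 (map_cent_le _ y z.2)) (by rw [Subgroup.orderOf_coe, hz])

theorem CS.not_tri (h : CS G m n) : ¬ Tri (G ⧸ center G) := by
  rintro ⟨a, b, c, h0, h1, h2, h3⟩
  obtain ⟨a, rfl⟩ := QuotientGroup.mk_surjective a
  obtain ⟨b, rfl⟩ := QuotientGroup.mk_surjective b
  obtain ⟨c, rfl⟩ := QuotientGroup.mk_surjective c
  have := h.all a h1.ne.1
  have := h.all b h3.ne.1
  have := h.all c fun e => h0 ((QuotientGroup.eq_one_iff c).2 e)
  have := h1.ne.2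
  have := h2.ne.2
  have := h3.ne.2
  omega

theorem sep_of_spec {H : Type*} [Group H] [Finite H] {x y : H} {s : ℕ} (hs : s.Prime) (h1 : s ∣ orderOf x)
    (h2 : ¬ s ∣ orderOf y) (h3 : ¬ ∃ z : H, orderOf z = s * orderOf y) : Sep x y :=
  ⟨s, hs, h1, fun z hz e => h3 ⟨z * y, by
    rw [hz.orderOf_mul_eq_mul_orderOf_of_coprime (e ▸ (hs.coprime_iff_not_dvd).2 h2), e]⟩⟩

theorem tri_of_spec {H : Type*} [Group H] [Finite H] {p M N s : ℕ} (hp : p.Prime) (hs : s.Prime)
    (h : ∀ k, (∃ x : H, orderOf x = k) ↔ k ∣ p ∨ k ∣ M ∨ k ∣ N) (h1 : ¬ p ∣ M) (h2 : ¬ p ∣ N) (h3 : s ∣ M)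
    (h4 : ¬ s ∣ N) (h5 : ¬ N ∣ M) : Tri H := by
  obtain ⟨a, ha⟩ := (h p).2 (Or.inl dvd_rfl)
  obtain ⟨b, hb⟩ := (h M).2 (Or.inr (Or.inl dvd_rfl))
  obtain ⟨c, hc⟩ := (h N).2 (Or.inr (Or.inr dvd_rfl))
  have k : ∀ t, p * t ∣ p → t ∣ 1 := fun t e => Nat.dvd_of_mul_dvd_mul_left hp.pos (by simpa using e)
  refine ⟨a, b, c, fun e => h5 (by rw [← hc, e, orderOf_one]; exact one_dvd _),
    sep_of_spec hp ha.symm.dvd (hb ▸ h1) ?_, sep_of_spec hp ha.symm.dvd (hc ▸ h2) ?_,
    sep_of_spec hs (hb ▸ h3) (hc ▸ h4) ?_⟩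
  · rw [h, hb]
    rintro (e | e | e)
    exacts [hs.not_dvd_one (h3.trans (k _ e)), h1 ((dvd_mul_right _ _).trans e), h2 ((dvd_mul_right _ _).trans e)]
  · rw [h, hc]
    rintro (e | e | e)
    exacts [h5 ((k _ e).trans (one_dvd _)), h1 ((dvd_mul_right _ _).trans e), h2 ((dvd_mul_right _ _).trans e)]
  · rw [h, hc]
    rintro (e | e | e)
    · exact h1 ((Nat.prime_dvd_prime_iff_eq hs hp).1 ((dvd_mul_right _ _).trans e) ▸ h3)
    exacts [h5 ((dvd_mul_left _ _).trans e), h4 ((dvd_mul_right _ _).trans e)]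

theorem not_dvd_pred_succ {p q : ℕ} (hp : p.Prime) (h : p ∣ q) (hq : 0 < q) : ¬ p ∣ q - 1 ∧ ¬ p ∣ q + 1 :=
  ⟨fun e => hp.not_dvd_one ((Nat.dvd_sub_iff_right (by omega) h).1 e),
    fun e => hp.not_dvd_one ((Nat.dvd_add_right h).1 e)⟩

theorem tri_psl2 (F : Type) [Field F] [Fintype F] (hF : 4 ≤ Fintype.card F) :
    Tri (Matrix.ProjectiveSpecialLinearGroup (Fin 2) F) := by
  obtain ⟨p, _⟩ := CharP.exists F
  obtain ⟨_, hp, -⟩ := FiniteField.card F p
  haveI := Fact.mk hp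
  rw [← Nat.card_eq_fintype_card] at hF
  obtain ⟨h1, h2⟩ := not_dvd_pred_succ hp (Known.char_dvd_natCard (F := F) p) (by omega)
  have h := Known.PSL2_spectrum (F := F) p
  generalize Nat.card F = q at *
  obtain ⟨k, rfl | rfl⟩ := Nat.even_or_odd' q
  · obtain ⟨j, rfl⟩ : ∃ j, k = j + 1 := ⟨k - 1, by omega⟩
    rw [show 2 * (j + 1) - 1 = 2 * j + 1 by omega] at *
    rw [show Nat.gcd 2 (2 * j + 1) = 1 by simp, Nat.div_one, Nat.div_one] at h
    obtain ⟨s, hs, hd⟩ := Nat.exists_prime_and_dvd (n := 2 * j + 1) (by omega)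
    refine tri_of_spec hp hs h h1 h2 hd (fun e => ?_) fun e => absurd (Nat.le_of_dvd (by omega) e) (by omega)
    have := (Nat.dvd_add_right hd).1 (show s ∣ 2 * j + 1 + 2 from e)
    rw [(Nat.prime_dvd_prime_iff_eq hs Nat.prime_two).1 this] at hd
    omega
  · rw [Nat.add_sub_cancel] at *
    rw [show 2 * k + 1 + 1 = 2 * (k + 1) by ring] at *
    rw [Nat.gcd_mul_right_right, Nat.mul_div_cancel_left _ two_pos, Nat.mul_div_cancel_left _ two_pos] at h
    obtain ⟨s, hs, hd⟩ := Nat.exists_prime_and_dvd (n := k) (by omega)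
    exact tri_of_spec hp hs h (fun e => h1 (e.mul_left 2)) (fun e => h2 (e.mul_left 2)) hd
      (not_dvd_pred_succ hs hd (by omega)).2 fun e => absurd (Nat.le_of_dvd (by omega) e) (by omega)

theorem tri_pgl2 (F : Type) [Field F] [Fintype F] (hF : 5 ≤ Fintype.card F) (ho : Odd (Fintype.card F)) :
    Tri (GL (Fin 2) F ⧸ center (GL (Fin 2) F)) := by
  obtain ⟨p, _⟩ := CharP.exists F
  obtain ⟨_, hp, -⟩ := FiniteField.card F p
  haveI := Fact.mk hp
  rw [← Nat.card_eq_fintype_card] at hF ho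
  obtain ⟨h1, h2⟩ := not_dvd_pred_succ hp (Known.char_dvd_natCard (F := F) p) (by omega)
  have h := FG.pgl2_spectrum (F := F) p
  generalize Nat.card F = q at *
  obtain ⟨k, rfl⟩ := ho
  rw [Nat.add_sub_cancel] at *
  have key : ∀ s j : ℕ, s.Prime → s ∣ 2 * j + 1 → s ∣ 2 * k → s ∣ 2 * k + 1 + 1 → False := fun s j hs a b c => by
    have := (Nat.dvd_add_right b).1 (show s ∣ 2 * k + 2 from c)
    rw [(Nat.prime_dvd_prime_iff_eq hs Nat.prime_two).1 this] at a
    omega
  obtain ⟨j, rfl | rfl⟩ := Nat.even_or_odd' k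
  · obtain ⟨s, hs, hd⟩ := Nat.exists_prime_and_dvd (n := 2 * j + 1) (by omega)
    have hd' : s ∣ 2 * (2 * j) + 1 + 1 := by rw [show 2 * (2 * j) + 1 + 1 = 2 * (2 * j + 1) by ring]; exact hd.mul_left 2
    refine tri_of_spec hp hs (fun k => (h k).trans (by tauto)) h2 h1 hd' (fun e => key s j hs hd e hd') fun e => ?_
    have := (Nat.dvd_add_right dvd_rfl).1 (show 2 * (2 * j) ∣ 2 * (2 * j) + 2 from e)
    exact absurd (Nat.le_of_dvd two_pos this) (by omega)
  · obtain ⟨s, hs, hd⟩ := Nat.exists_prime_and_dvd (n := 2 * j + 1) (by omega)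
    exact tri_of_spec hp hs h h1 h2 (hd.mul_left 2) (key s j hs hd (hd.mul_left 2))
      fun e => absurd (Nat.le_of_dvd (by omega) e) (by omega)

theorem sep_of_coprime {H : Type*} [Group H] [Finite H] {x y : H} (hx : x ≠ 1)
    (h : (Nat.card C[x]).Coprime (Nat.card C[y])) : Sep x y := by
  obtain ⟨s, hs, hd⟩ := Nat.exists_prime_and_dvd (n := orderOf x) (by rwa [Ne, orderOf_eq_one_iff])
  exact ⟨s, hs, hd, fun z hz e => hs.ne_one (Nat.eq_one_of_dvd_coprimes h
    (hd.trans (orderOf_dvd_natCard _ (self_mem_cent x))) (e ▸ orderOf_dvd_natCard _ (mem_cent_iff.2 hz)))⟩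

theorem tri_sz {H : Type*} [Group H] (h : Lie.IsoSuzuki H) : Tri H := by
  obtain ⟨F, _, _, k, hk, hF, ⟨e⟩⟩ := h
  haveI := BN.Sz.szField_of_card hk hF
  refine Tri.of_equiv (e.trans (BN.Sz.szEquiv k).symm) ?_
  obtain ⟨T₁, T₂, h1, h2, c1, c2, -⟩ := BN.Sz.exists_tori (F := F) k
  obtain ⟨b, hb, hb1⟩ := h1.exists_ne_one
  obtain ⟨c, hc, hc1⟩ := h2.exists_ne_one
  obtain ⟨a, ha⟩ := exists_prime_orderOf_dvd_card' (G := Cfsg.Sz F k) 2 (by
    rw [BN.Sz.card_Sz]; exact (((dvd_pow_self 2 (by omega)).trans (dvd_pow_self _ two_ne_zero)).mul_right _).mul_right _)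
  have ha1 : a ≠ 1 := fun e => by rw [e, orderOf_one] at ha; omega
  have hP := BN.Sz.isPGroup_centralizer ha1 (orderOf_dvd_iff_pow_eq_one.1 (by rw [ha]; norm_num))
  have ho : ((2 ^ (2 * k + 1)) ^ 2 + 1).Coprime 2 := by
    rw [Nat.coprime_two_right]; exact (Even.pow_of_ne_zero (by simp [Nat.even_pow]) two_ne_zero).add_one
  refine ⟨a, b, c, hc1, sep_of_coprime ha1 ?_, sep_of_coprime ha1 ?_, sep_of_coprime hb1 ?_⟩
  · rw [h1.centralizer_eq hb hb1]
    exact Core.coprime_card_of_isPGroup Nat.prime_two hP (ho.coprime_dvd_left h1.card_dvd)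
  · rw [h2.centralizer_eq hc hc1]
    exact Core.coprime_card_of_isPGroup Nat.prime_two hP (ho.coprime_dvd_left h2.card_dvd)
  · rw [h1.centralizer_eq hb hb1, h2.centralizer_eq hc hc1, c1, c2]
    exact BN.Sz.coprime_tori (F := F) k

/-- `F`-groups: centralisers of non-central elements are pairwise incomparable -/
def IsF (G : Type*) [Group G] : Prop := ∀ x y : G, y ∉ center G → C[x] ≤ C[y] → C[x] = C[y]

theorem solvable_of_partition {H : Type*} [Group H] [Finite H] (S : Set (Subgroup H)) (h1 : ∀ A ∈ S, A ≠ ⊥)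
    (h2 : ∀ g : H, g ≠ 1 → ∃! A : Subgroup H, A ∈ S ∧ g ∈ A) (h3 : ∀ A ∈ S, IsMulCommutative A) (ht : ¬ Tri H) :
    Group.IsSolvable H := by
  have hC : ∀ {p : ℕ} {z : H}, p.Prime → orderOf z = p → Group.IsSolvable C[z] := by
    intro p z hp hz
    haveI := Fact.mk hp
    have hz1 : z ≠ 1 := fun e => hp.ne_one (by rw [← hz, e, orderOf_one])
    obtain ⟨A, ⟨hA, hzA⟩, hu⟩ := h2 z hz1
    have hle : resOf p C[z] ≤ A := resOf_le_iff.2 fun g hg hc => by
      have c : Commute g z := mem_cent_iff.1 hg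
      rw [← hz] at hc
      obtain ⟨B, ⟨hB, hgB⟩, -⟩ := h2 (g * z) fun e => hz1 (by
        simpa [e] using right_mem_zpowers_mul c hc)
      exact hu B ⟨hB, zpowers_le.2 hgB (right_mem_zpowers_mul c hc)⟩ ▸ zpowers_le.2 hgB (left_mem_zpowers_mul c hc)
    obtain ⟨T, hT⟩ := exists_sylowIn (p := p) C[z]
    haveI := h3 A hA
    haveI : Group.IsSolvable A := Group.isSolvable_of_comm fun a b => mul_comm' a b
    haveI := Core.isSolvable_of_le hle
    haveI := Core.isSolvable_of_isPGroup hp hT.isPGroup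
    rw [← hT.resOf_sup, sup_comm]
    exact Core.isSolvable_sup_of_le_normalizer (hT.le.trans (le_normalizer.trans (normalizer_le_normalizer_resOf _)))
  by_cases hS : ∃ A ∈ S, ∃ B ∈ S, A ≠ B
  swap
  · push Not at hS
    refine Group.isSolvable_of_comm fun a b => ?_
    by_cases ha : a = 1
    · simp [ha]
    by_cases hb : b = 1
    · simp [hb]
    obtain ⟨A, ⟨hA, haA⟩, -⟩ := h2 a ha
    obtain ⟨B, ⟨hB, hbB⟩, -⟩ := h2 b hb
    haveI := h3 A hA
    exact congrArg Subtype.val (mul_comm' (⟨a, haA⟩ : A) ⟨b, hS A hA B hB ▸ hbB⟩)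
  rcases Cfsg.Agent.S4248.result S hS h1 h2 with ⟨⟨e⟩⟩ | ⟨p, hp, h⟩ | ⟨K, hK⟩ | ⟨F, _, _, hF, ⟨e⟩⟩ |
    ⟨F, _, _, hF, ho, ⟨e⟩⟩ | h
  · haveI := Linear.isSolvable_S4
    exact Core.isSolvable_of_equiv e.symm
  · by_cases hP : IsPGroup p H
    · exact Core.isSolvable_of_isPGroup hp hP
    obtain ⟨hn, hi⟩ := Cfsg.Agent.S4249.result p hp hP h
    haveI : (closure {g : H | g ^ p ≠ 1}).Normal := ⟨fun x hx g => by
      have : map (MulAut.conj g).toMonoidHom (closure {g : H | g ^ p ≠ 1}) ≤ closure {g : H | g ^ p ≠ 1} := by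
        rw [MonoidHom.map_closure]
        apply Subgroup.closure_mono
        rintro _ ⟨y, hy, rfl⟩
        simpa [conj_pow] using hy
      exact this (mem_map_of_mem _ hx)⟩
    haveI : Group.IsSolvable (H ⧸ closure {g : H | g ^ p ≠ 1}) :=
      Core.isSolvable_of_isPGroup hp (IsPGroup.of_card (n := 1) (by rw [pow_one]; exact hi))
    exact Core.isSolvable_of_normal_of_quotient (closure {g : H | g ^ p ≠ 1})
  · obtain ⟨N, -, _, -, -, hf, htop⟩ := Coprime.exists_frobKernel hK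
    haveI := BS.Fpf.nilpotent hf le_normalizer_of_normal hK.1
    haveI : Group.IsSolvable K := by
      rcases Nat.even_or_odd (Nat.card K) with e | e
      · haveI : Fact (Nat.Prime 2) := ⟨Nat.prime_two⟩
        obtain ⟨z, hz⟩ := exists_prime_orderOf_dvd_card' 2 e.two_dvd
        haveI := hC Nat.prime_two ((Subgroup.orderOf_coe z).trans hz)
        exact Core.isSolvable_of_le (K := C[(z : H)]) fun g hg => mem_cent_iff.2
          (congrArg Subtype.val ((FC.of_isFrobeniusComplement hK).inv_comm hz ⟨g, hg⟩))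
      · exact FT.odd_order_solvable _ e
    haveI := Core.isSolvable_sup_of_normal K N
    rw [htop] at this
    exact Core.isSolvable_of_equiv topEquiv
  · exact absurd ((tri_psl2 F hF).of_equiv e) ht
  · exact absurd ((tri_pgl2 F hF ho).of_equiv e) ht
  · exact absurd (tri_sz h) ht

theorem solvable_of_quot (h : Group.IsSolvable (G ⧸ center G)) : Group.IsSolvable G :=
  haveI : Group.IsSolvable (center G) := Group.isSolvable_of_comm fun a b => mul_comm' a b
  Core.isSolvable_of_normal_of_quotient (center G)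

theorem IsF.solvable (hF : IsF G) (h : CS G m n) : Group.IsSolvable G := by
  have hz : ∀ x : G, center G ≤ centralizer (C[x] : Set G) := fun x => center_le_centralizer _
  have mem : ∀ x g : G, (g : G ⧸ center G) ∈ (centralizer (C[x] : Set G)).map (QuotientGroup.mk' (center G)) ↔
      C[x] ≤ C[g] := fun x g => by
    rw [le_cent_iff, ← QuotientGroup.mk'_apply, ← mem_comap, comap_map_eq_self (by simpa using hz x)]
  refine solvable_of_quot (solvable_of_partition
    {A | ∃ x, x ∉ center G ∧ A = (centralizer (C[x] : Set G)).map (QuotientGroup.mk' (center G))} ?_ ?_ ?_ h.not_tri)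
  · rintro _ ⟨x, hx, rfl⟩ e
    have := (mem x x).2 le_rfl
    rw [e, mem_bot, QuotientGroup.eq_one_iff] at this
    exact hx this
  · intro g hg
    obtain ⟨g, rfl⟩ := QuotientGroup.mk_surjective g
    have hg' : g ∉ center G := fun e => hg ((QuotientGroup.eq_one_iff g).2 e)
    refine ⟨_, ⟨⟨g, hg', rfl⟩, (mem g g).2 le_rfl⟩, ?_⟩
    rintro _ ⟨⟨x, -, rfl⟩, hx⟩
    rw [hF x g hg' ((mem x g).1 hx)]
  · rintro _ ⟨x, -, rfl⟩
    haveI : IsMulCommutative (centralizer (C[x] : Set G)) := ⟨⟨fun a b => Subtype.ext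
      (b.2 a (centralizer_le (Set.singleton_subset_iff.2 (self_mem_cent x)) a.2))⟩⟩
    infer_instance

theorem NF.of_not (h : CS G m n) (hF : ¬ IsF G) : NF G m n := ⟨h, by
  by_contra c
  push Not at c
  exact hF c⟩

theorem three_or : Three G ∨ ∃ p q : ℕ, p.Prime ∧ q.Prime ∧ ∀ r, Pi G r → r = p ∨ r = q := by
  by_cases h : Three G
  · exact Or.inl h
  simp only [Three, not_forall, not_exists, not_and, not_not] at h
  obtain ⟨p, q, h⟩ := h
  refine Or.inr ⟨if p.Prime then p else 2, if q.Prime then q else 2, ?_, ?_, fun r hr => ?_⟩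
  · split_ifs with c; exacts [c, Nat.prime_two]
  · split_ifs with c; exacts [c, Nat.prime_two]
  by_cases c : r = p
  · exact Or.inl (by rw [← c, if_pos hr.1])
  · exact Or.inr (by rw [← h r hr c, if_pos hr.1])

/-- **Ito**: at most three class sizes imply solvability -/
theorem CS.solvable (h : CS G m n) : Group.IsSolvable G := by
  by_cases hF : IsF G
  · exact hF.solvable h
  rcases three_or (G := G) with h3 | ⟨p, q, hp, hq, h2⟩
  · exact ((NF.of_not h hF).false_of_three h3).elim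
  · exact solvable_of_quot (isSolvable_of_two_primes hp hq fun r hr hd =>
      h2 r (pi_of_dvd hr (H := ⊤) le_rfl (by rwa [relIndex_top_right])))

end Cfsg.Lib.CS3
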