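import Cfsg.Agent.Lib.CS3.Basic

/-! # Three class sizes, at least three primes: the group is an `F`-group -/

set_option autoImplicit false
set_option linter.unusedSectionVars false

namespace Cfsg.Lib.CS3

open Subgroup Cfsg.Lib.Hall Cfsg.Lib.Transfer

variable {G : Type*} [Group G] [Finite G] {m n : ℕ}

/-- at least three primes divide `|G/Z(G)|` -/
def Three (G : Type*) [Group G] : Prop := ∀ p q : ℕ, ∃ r, Pi G r ∧ r ≠ p ∧ r ≠ q

theorem NF.abel (h : NF G m n) (h3 : Three G) {y₁ y₂ : G} {p q : ℕ} (hp : p.Prime) (hq : q.Prime) (hpq : p ≠ q)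
    (h1 : PE p y₁) (h2 : PE q y₂) (hy₁ : y₁ ∉ center G) (hy₂ : y₂ ∉ center G) (e : C[y₂] = C[y₁]) (hm : cs y₁ = m) :
    ∀ w ∈ C[y₁], C[y₁] ≤ C[w] := by
  obtain ⟨H, hH⟩ : ∃ H, C[y₁] = H := ⟨_, rfl⟩
  rw [hH] at e hm ⊢
  have hZ : center G ≤ H := hH ▸ center_le_cent y₁
  let Good : ℕ → Prop := fun g => g.Prime ∧ ∃ u, PE g u ∧ u ∉ center G ∧ C[u] = H
  have gp : Good p := ⟨hp, y₁, h1, hy₁, hH⟩
  have gq : Good q := ⟨hq, y₂, h2, hy₂, e⟩
  have small : ∀ s : ℕ, s.Prime → ∀ w ∈ H, PE s w → ¬ H ≤ C[w] →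
      ∃ x, x ∉ center G ∧ C[x] = H ⊓ C[w] ∧ (H ⊓ C[w]).index = n := by
    intro s hs w hw hpw hn
    obtain ⟨g, ⟨hg, u, hu, huc, rfl⟩, hgs⟩ : ∃ g, Good g ∧ g ≠ s := by
      by_cases e' : p = s
      · exact ⟨q, gq, fun e'' => hpq (e'.trans e''.symm)⟩
      · exact ⟨p, gp, e'⟩
    obtain ⟨a, b, c, -⟩ := h.inf_small huc hw hn (PE.coprime hg hs hgs hu hpw)
    exact ⟨_, b, a, a ▸ c⟩
  have eqX : ∀ s t : ℕ, s.Prime → t.Prime → ∀ w ∈ H, PE s w → ¬ H ≤ C[w] → ∀ v ∈ H, PE t v → ¬ H ≤ C[v] →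
      H ⊓ C[w] ≤ C[v] → H ⊓ C[w] = H ⊓ C[v] := fun s t hs ht w hw hpw hn v hv hpv hn' hle =>
    eq_of_le_of_index_le (le_inf inf_le_left hle)
      ((small s hs w hw hpw hn).choose_spec.2.2.trans (small t ht v hv hpv hn').choose_spec.2.2.symm).le
  have N1a : ∀ g s t : ℕ, Good g → s.Prime → t.Prime → g ≠ s → g ≠ t → s ≠ t → ∀ w ∈ H, PE s w → ¬ H ≤ C[w] →
      ∀ v ∈ H ⊓ C[w], PE t v → H ⊓ C[w] ≤ C[v] := by
    rintro g s t ⟨hg, u, hu, huc, rfl⟩ hs ht a b c w hw hpw hn v hv hpv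
    exact h.inf_le huc hw hn (PE.coprime hg hs a hu hpw) hv (PE.coprime hg ht b hu hpv) (PE.coprime hs ht c hpw hpv)
  have N1 : ∀ s t : ℕ, s.Prime → t.Prime → s ≠ t → ∀ w ∈ H, PE s w → ¬ H ≤ C[w] →
      ∀ v ∈ H ⊓ C[w], PE t v → H ⊓ C[w] ≤ C[v] := by
    intro s t hs ht hst w hw hpw hn v hv hpv
    by_cases c : ∃ g, Good g ∧ g ≠ s ∧ g ≠ t
    · obtain ⟨g, hg, a, b⟩ := c
      exact N1a g s t hg hs ht a b hst w hw hpw hn v hv hpv
    push Not at c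
    have gst : Good s ∧ Good t := by
      by_cases a : p = s
      · exact ⟨a ▸ gp, c q gq (fun e' => hpq (a.trans e'.symm)) ▸ gq⟩
      · have b := c p gp a
        refine ⟨?_, b ▸ gp⟩
        by_contra d
        exact hpq (b.trans (c q gq fun e' => d (e' ▸ gq)).symm)
    obtain ⟨r, hr, hrs, hrt⟩ := h3 s t
    obtain ⟨x, hx, ex, -⟩ := small s hs w hw hpw hn
    obtain ⟨τ, hτ, hτc, hpτ⟩ := h.exists_pe hr hx
    rw [ex] at hτ
    have hnτ : ¬ H ≤ C[τ] := fun hle => hrt (c r ⟨hr.1, τ, hpτ, hτc,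
      (hH ▸ h.eq_of_large (hH ▸ hm) hτc (hH ▸ hle)).symm⟩ hrs)
    have e1 := eqX s r hs hr.1 w hw hpw hn τ hτ.1 hpτ hnτ
      (N1a t s r gst.2 hs hr.1 hst.symm hrt.symm hrs.symm w hw hpw hn τ hτ hpτ)
    rw [e1] at hv ⊢
    exact N1a s r t gst.1 hr.1 ht hrs.symm hst hrt τ hτ.1 hpτ hnτ v hv hpv
  let σ : ℕ → Prop := fun s => s.Prime ∧ ∃ w ∈ H, PE s w ∧ ¬ H ≤ C[w]
  have N2 : ∀ s t : ℕ, σ s → t.Prime → ∀ v ∈ H, PE t v → ¬ H ≤ C[v] → ∃ w ∈ H ⊓ C[v], PE s w ∧ ¬ H ≤ C[w] := by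
    rintro s t ⟨hs, w, hw, hpw, hn⟩ ht v hv hpv hn'
    have zle : ∀ u ∈ H, H ⊓ centralizer (H : Set G) ≤ H ⊓ C[u] := fun u hu =>
      inf_le_inf_left H (centralizer_le (Set.singleton_subset_iff.2 hu))
    have hd : s ∣ (H ⊓ centralizer (H : Set G)).relIndex (H ⊓ C[w]) :=
      dvd_relIndex_of_pe hs (inf_le_left.trans (Core.le_normalizer_inf le_normalizer
        (Core.le_normalizer_centralizer le_normalizer))) ⟨hw, self_mem_cent w⟩
        (fun c => hn (le_cent_iff.2 c.2)) hpw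
    rw [relIndex_eq_of_index_eq (zle w hw) (zle v hv)
      ((small s hs w hw hpw hn).choose_spec.2.2.trans (small t ht v hv hpv hn').choose_spec.2.2.symm)] at hd
    obtain ⟨u, hu, hu', hpu⟩ := exists_pe_of_dvd hs hd
    exact ⟨u, hu, hpu, fun c => hu' ⟨hu.1, le_cent_iff.1 c⟩⟩
  have N4 : ∀ s t : ℕ, σ s → σ t → s ≠ t → ∀ a : ℕ, a.Prime → ∀ w ∈ H, PE a w → ¬ H ≤ C[w] →
      Cen H (H ⊓ C[w]) s := by
    intro s t hs ht hst a ha w hw hpw hn
    obtain ⟨b, v, hb, hbs, hv, hpv, hn', e1⟩ : ∃ (b : ℕ) (v : G), b.Prime ∧ b ≠ s ∧ v ∈ H ∧ PE b v ∧ ¬ H ≤ C[v] ∧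
        H ⊓ C[w] = H ⊓ C[v] := by
      by_cases c : a = s
      · obtain ⟨v, hv, hpv, hn'⟩ := N2 t a ht ha w hw hpw hn
        exact ⟨t, v, ht.1, hst.symm, hv.1, hpv, hn', eqX a t ha ht.1 w hw hpw hn v hv.1 hpv hn'
          (N1 a t ha ht.1 (c ▸ hst) w hw hpw hn v hv hpv)⟩
      · exact ⟨a, w, ha, c, hw, hpw, hn, rfl⟩
    rw [e1]
    exact ⟨inf_le_left, N2 s b hs hb v hv hpv hn', N1 b s hb hs.1 hbs v hv hpv hn', fun u hu hpu hnu =>
      (eqX b s hb hs.1 v hv hpv hn' u hu.1 hpu hnu (N1 b s hb hs.1 hbs v hv hpv hn' u hu hpu)).ge⟩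
  have N3 : ∀ s t : ℕ, σ s → σ t → s = t := by
    intro s t hs ht
    by_contra hst
    obtain ⟨w, hw, hpw, hn⟩ := hs.2
    have D : ∀ s' t' : ℕ, σ s' → σ t' → s' ≠ t' → s' ∣ (H ⊓ C[w]).relIndex H := by
      intro s' t' hs' ht' hst'
      by_contra hd
      refine hn (le_trans (le_of_cover (X := H ⊓ C[w]) fun x hx => ?_) inf_le_right)
      by_cases c : x ∈ centralizer (H : Set G)
      · exact ⟨1, one_mem _, by rw [cj_one]; exact ⟨hx, mem_cent_comm.1 (le_cent_iff.2 c hw)⟩⟩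
      obtain ⟨a, ha, v, hv, hpv, hvc⟩ := exists_pPart_not_mem c
      have hvH : v ∈ H := zpowers_le.2 hx hv
      have hn' : ¬ H ≤ C[v] := fun c => hvc (le_cent_iff.1 c)
      obtain ⟨g, hg, eg⟩ := (N4 s' t' hs' ht' hst' s hs.1 w hw hpw hn).exists_cj
        (N4 s' t' hs' ht' hst' a ha v hvH hpv hn') hs'.1 hd (by
          rwa [relIndex_eq_of_index_eq' inf_le_left inf_le_left
            ((small a ha v hvH hpv hn').choose_spec.2.2.trans (small s hs.1 w hw hpw hn).choose_spec.2.2.symm)])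
      exact ⟨g, hg, eg ▸ ⟨hx, cent_le_of_mem_zpowers hv (self_mem_cent x)⟩⟩
    exact (N4 s t hs ht hst s hs.1 w hw hpw hn).not_dvd (N4 t s ht hs (Ne.symm hst) s hs.1 w hw hpw hn) hs.1 ht.1 hst
      (D s t hs ht hst) (D t s ht hs (Ne.symm hst))
  by_contra hc
  obtain ⟨s, hs⟩ : ∃ s, σ s := by
    by_contra c
    push Not at c
    exact hc fun w hw => le_cent_iff.2 (le_of_forall_isPGroup (K := centralizer (H : Set G))
      (fun a ha x hx hpx => le_cent_iff.1 (by_contra fun d => c a ⟨ha, x, hx, hpx, d⟩)) hw)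
  have F : ∀ r, Pi G r → r ≠ s → Cen ⊤ H r ∧ r ∣ H.relIndex ⊤ := by
    intro r hr hrs
    have cen : ∀ v ∈ H, PE r v → H ≤ C[v] := fun v hv hpv => by_contra fun d => hrs (N3 r s ⟨hr.1, v, hv, hpv, d⟩ hs)
    have nc : ∀ v : G, ¬ ⊤ ≤ C[v] ↔ v ∉ center G := fun v => by rw [top_le_iff, cent_eq_top_iff]
    refine ⟨⟨le_top, ?_, cen, fun v hv hpv hn => ?_⟩, ?_⟩
    · obtain ⟨t, ht, htc, hpt⟩ := h.exists_pe hr hy₁
      exact ⟨t, hH ▸ ht, hpt, (nc t).2 htc⟩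
    · rw [top_inf_eq, ← h.eq_of_large (x := y₁) (by rw [hH]; exact hm) ((nc v).1 hn) (hH.le.trans (cen v hv hpv)), hH]
    · obtain ⟨w, hw, hpw, hn⟩ := hs.2
      have hd := h.dvd_n hr
      rw [← (small s hs.1 w hw hpw hn).choose_spec.2.2, ← relIndex_mul_index (inf_le_left : H ⊓ C[w] ≤ H),
        hr.1.dvd_mul] at hd
      rw [relIndex_top_right]
      exact hd.resolve_left (not_dvd_relIndex_of_forall hr.1 fun v hv hpv => ⟨hv, mem_cent_comm.1 (cen v hv hpv hw)⟩)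
  obtain ⟨r, hr, hrs, -⟩ := h3 s s
  obtain ⟨t, ht, hts, htr⟩ := h3 s r
  exact (F r hr hrs).1.not_dvd (F t ht hts).1 hr.1 ht.1 htr.symm (F r hr hrs).2 (F t ht hts).2

/-- `y` is a `p`-element with large non-abelian centraliser -/
structure Uy (m n p : ℕ) (y : G) : Prop where
  nf : NF G m n
  three : Three G
  prime : p.Prime
  pe : PE p y
  nc : y ∉ center G
  large : cs y = m
  nonab : ¬ ∀ w ∈ C[y], C[y] ≤ C[w]

/-- `X` is the centraliser in `C(y)` of a non-central `p'`-element of prime power order -/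
def IsX (p : ℕ) (y : G) (X : Subgroup G) : Prop :=
  ∃ (s : ℕ) (w : G), s.Prime ∧ s ≠ p ∧ w ∈ C[y] ∧ PE s w ∧ w ∉ center G ∧ X = C[y] ⊓ C[w]

variable {p : ℕ} {y : G} {X : Subgroup G}

theorem Uy.not_le (u : Uy m n p y) {s : ℕ} (hs : s.Prime) (hsp : s ≠ p) {w : G} (hp : PE s w) (hw : w ∉ center G) :
    ¬ C[y] ≤ C[w] := fun hle => u.nonab (u.nf.abel u.three u.prime hs hsp.symm u.pe hp u.nc hw
      (u.nf.eq_of_large u.large hw hle).symm u.large)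

theorem Uy.small (u : Uy m n p y) (hX : IsX p y X) : X.index = n ∧ ∃ x, x ∉ center G ∧ C[x] = X := by
  obtain ⟨s, w, hs, hsp, hw, hp, hc, rfl⟩ := hX
  obtain ⟨a, b, c, -⟩ := u.nf.inf_small u.nc hw (u.not_le hs hsp hp hc) (PE.coprime u.prime hs hsp.symm u.pe hp)
  exact ⟨a ▸ c, _, b, a⟩

theorem IsX.le (hX : IsX p y X) : X ≤ C[y] := by
  obtain ⟨s, w, -, -, -, -, -, rfl⟩ := hX; exact inf_le_left

theorem IsX.center_le (hX : IsX p y X) : center G ≤ X := by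
  obtain ⟨s, w, -, -, -, -, -, rfl⟩ := hX; exact le_inf (center_le_cent _) (center_le_cent _)

theorem Uy.eq_of_le (u : Uy m n p y) {X' : Subgroup G} (hX : IsX p y X) (hX' : IsX p y X') (h : X ≤ X') : X = X' :=
  eq_of_le_of_index_le h ((u.small hX).1.trans (u.small hX').1.symm).le

theorem Uy.cen (u : Uy m n p y) (hX : IsX p y X) {t : ℕ} (ht : t.Prime) (htp : t ≠ p) {v : G} (hv : v ∈ X)
    (hpv : PE t v) : X ≤ C[v] := by
  have a : ∀ {X : Subgroup G} {s t : ℕ} {w v : G}, s.Prime → s ≠ p → w ∈ C[y] → PE s w → w ∉ center G →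
      X = C[y] ⊓ C[w] → t.Prime → t ≠ p → s ≠ t → v ∈ X → PE t v → X ≤ C[v] := by
    rintro _ s t w v hs hsp hw hp hc rfl ht htp hst hv hpv
    exact u.nf.inf_le u.nc hw (u.not_le hs hsp hp hc) (PE.coprime u.prime hs hsp.symm u.pe hp) hv
      (PE.coprime u.prime ht htp.symm u.pe hpv) (PE.coprime hs ht hst hp hpv)
  obtain ⟨r, hr, hrp, hrt⟩ := u.three p t
  obtain ⟨-, x, hx, ex⟩ := u.small hX
  obtain ⟨τ, hτ, hτc, hpτ⟩ := u.nf.exists_pe hr hx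
  rw [ex] at hτ
  obtain ⟨s, w, hs, hsp, hw, hp, hc, e⟩ := id hX
  by_cases hst : s = t
  · exact a hr.1 hrp (hX.le hτ) hpτ hτc (u.eq_of_le hX ⟨r, τ, hr.1, hrp, hX.le hτ, hpτ, hτc, rfl⟩
      (le_inf hX.le (a hs hsp hw hp hc e hr.1 hrp (hst ▸ hrt.symm) hτ hpτ))) ht htp hrt hv hpv
  · exact a hs hsp hw hp hc e ht htp hst hv hpv

theorem Uy.eq_inf (u : Uy m n p y) (hX : IsX p y X) {t : ℕ} (ht : t.Prime) (htp : t ≠ p) {v : G} (hv : v ∈ X)
    (hpv : PE t v) (hc : v ∉ center G) : X = C[y] ⊓ C[v] :=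
  u.eq_of_le hX ⟨t, v, ht, htp, hX.le hv, hpv, hc, rfl⟩ (le_inf hX.le (u.cen hX ht htp hv hpv))

theorem Uy.isCen (u : Uy m n p y) (hX : IsX p y X) {t : ℕ} (ht : Pi G t) (htp : t ≠ p) : Cen C[y] X t := by
  refine ⟨hX.le, ?_, fun v hv hpv => u.cen hX ht.1 htp hv hpv, fun v hv hpv hn =>
    (u.eq_inf hX ht.1 htp hv hpv fun c => hn (by rw [cent_eq_top_iff.2 c]; exact le_top)).ge⟩
  obtain ⟨-, x, hx, ex⟩ := u.small hX
  obtain ⟨τ, hτ, hτc, hpτ⟩ := u.nf.exists_pe ht hx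
  exact ⟨τ, ex ▸ hτ, hpτ, u.not_le ht.1 htp hpτ hτc⟩

theorem Uy.exists_not_dvd (u : Uy m n p y) (hX : IsX p y X) : ∃ r, Pi G r ∧ r ≠ p ∧ ¬ r ∣ X.relIndex C[y] := by
  obtain ⟨r, hr, hrp, -⟩ := u.three p p
  obtain ⟨t, ht, htp, htr⟩ := u.three p r
  by_contra c
  push Not at c
  exact (u.isCen hX hr hrp).not_dvd (u.isCen hX ht htp) hr.1 ht.1 htr.symm (c r hr hrp) (c t ht htp)

theorem Uy.exists_cj (u : Uy m n p y) {X' : Subgroup G} (hX : IsX p y X) (hX' : IsX p y X') :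
    ∃ g ∈ C[y], cj g X = X' := by
  obtain ⟨r, hr, hrp, hd⟩ := u.exists_not_dvd hX
  exact (u.isCen hX hr hrp).exists_cj (u.isCen hX' hr hrp) hr.1 hd (by
    rwa [relIndex_eq_of_index_eq' hX'.le hX.le ((u.small hX').1.trans (u.small hX).1.symm)])

theorem IsX.cj (hX : IsX p y X) {g : G} (hg : g ∈ C[y]) : IsX p y (cj g X) := by
  obtain ⟨s, w, hs, hsp, hw, hp, hc, rfl⟩ := hX
  refine ⟨s, g * w * g⁻¹, hs, hsp, mul_mem (mul_mem hg hw) (inv_mem hg), hp.conj g, fun c => hc ?_, ?_⟩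
  · simpa [mul_assoc] using (inferInstance : (center G).Normal).conj_mem _ c g⁻¹
  · rw [cj_inf, cj_eq_of_mem hg, cj_cent]

theorem Uy.eq_of_dvd (u : Uy m n p y) (hX : IsX p y X) {s : ℕ} (hs : s.Prime)
    (hd : s ∣ (C[y] ⊓ normalizer (X : Set G)).relIndex C[y]) : s = p := by
  haveI := Fact.mk hs
  by_contra hsp
  have hk : s ∣ X.relIndex C[y] := hd.trans (relIndex_dvd_of_le_left _ (le_inf hX.le le_normalizer))
  obtain ⟨S, hS⟩ := exists_sylowIn (p := s) C[y]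
  haveI := hS.isPGroup.isNilpotent
  have hlt : (center G).subgroupOf S < ⊤ := lt_top_iff_ne_top.2 fun c =>
    hS.not_dvd (hk.trans (relIndex_dvd_of_le_left _ ((subgroupOf_eq_top.1 c).trans hX.center_le)))
  obtain ⟨w, -, hw, hwc⟩ := Core.exists_central_mod_of_lt hlt
  obtain ⟨g, hg, e⟩ := u.exists_cj ⟨s, w, hs, hsp, hS.le w.2, isPGroup_zpowers_of_mem hS.isPGroup w.2, hw, rfl⟩ hX
  have hSN : S ≤ normalizer ((C[y] ⊓ C[(w : G)] : Subgroup G) : Set G) := fun a ha => cj_eq_iff.1 (by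
    rw [cj_inf, cj_eq_of_mem (hS.le ha), cj_cent]
    have := cent_mul_center (x := (w : G)) (mem_subgroupOf.1 (hwc ⟨a, ha⟩))
    rw [← (mem_center_iff.1 (mem_subgroupOf.1 (hwc ⟨a, ha⟩)) w).symm] at this
    simpa using congrArg (C[y] ⊓ ·) this)
  have hS' := hS.cj_of_mem hg
  refine hS'.not_dvd (hd.trans (relIndex_dvd_of_le_left _ (le_inf hS'.le ?_)))
  rw [← e, ← cj_normalizer]
  exact cj_mono g hSN

theorem Uy.lt_relIndex (u : Uy m n p y) (hX : IsX p y X) {r : ℕ} (hr : Pi G r) (hrp : r ≠ p)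
    (hd : ¬ r ∣ X.relIndex C[y]) (hn : ¬ C[y] ≤ normalizer (X : Set G)) :
    (center G).relIndex (Bs X r) < (C[y] ⊓ normalizer (X : Set G)).relIndex C[y] := by
  obtain ⟨g, hg, hgn⟩ := SetLike.not_le_iff_exists.1 hn
  have hB : Bs X r ≤ X := Core.pCoreOf_le X
  refine index_lt_card _ (fun a : Bs X r => (QuotientGroup.mk ⟨a * g, mul_mem (hX.le (hB a.2)) hg⟩ :
    C[y] ⧸ (C[y] ⊓ normalizer (X : Set G)).subgroupOf C[y])) (fun a b e => ?_) (QuotientGroup.mk 1) fun a e => ?_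
  · have e1 : g⁻¹ * (a⁻¹ * b : Bs X r) * g ∈ C[y] ⊓ normalizer (X : Set G) := by
      have := mem_subgroupOf.1 (QuotientGroup.eq.1 e)
      rwa [show g⁻¹ * (a⁻¹ * b : Bs X r) * g = ((a : G) * g)⁻¹ * (b * g) by simp [mul_assoc]]
    obtain ⟨c, hc⟩ : ∃ c : Bs X r, c = a⁻¹ * b := ⟨_, rfl⟩
    rw [← hc] at e1 ⊢
    have hpc : PE r (c : G) := ((u.isCen hX hr hrp).mem_iff.1 c.2).2
    have e2 : g⁻¹ * c * g ∈ X := by
      by_contra c'
      refine hd ((dvd_relIndex_of_pe hr.1 inf_le_right e1 c' (by simpa using hpc.conj g⁻¹)).trans ?_)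
      rw [← relIndex_mul_relIndex X _ C[y] (le_inf hX.le le_normalizer) inf_le_left]
      exact dvd_mul_right _ _
    by_contra hc'
    exact hgn (cj_eq_iff.1 ((u.eq_inf (hX.cj hg) hr.1 hrp (mem_cj.2 e2) hpc hc').trans
      (u.eq_inf hX hr.1 hrp (hB c.2) hpc hc').symm))
  · have e1 : (a : G) * g ∈ normalizer (X : Set G) := by
      have := (QuotientGroup.eq.1 e.symm)
      simp only [mem_subgroupOf, inv_one, one_mul] at this
      exact this.2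
    exact hgn ((mul_mem_cancel_left (le_normalizer (hB a.2))).1 e1)

theorem Uy.eq_of_normal (u : Uy m n p y) (hX : IsX p y X) (hn : C[y] ≤ normalizer (X : Set G)) {s : ℕ} (hs : s.Prime)
    (hd : s ∣ X.relIndex C[y]) : s = p := by
  by_contra hsp
  refine not_dvd_relIndex_of_forall hs (fun v hv hpv => ?_) hd
  by_cases hc : v ∈ center G
  · exact hX.center_le hc
  obtain ⟨g, hg, e⟩ := u.exists_cj hX ⟨s, v, hs, hsp, hv, hpv, hc, rfl⟩
  rw [cj_eq_of_mem_normalizer (hn hg)] at e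
  rw [e]; exact ⟨hv, self_mem_cent v⟩

theorem eq_of_conj_mem_center {r s : ℕ} (hr : r.Prime) (hs : s.Prime) (hrs : r ≠ s) {a t z : G} (ha : PE s a)
    (hz : PE r z) (hc : z ∈ center G) (e : a * t * a⁻¹ = t * z) : z = 1 := by
  have k : ∀ j : ℕ, a ^ j * t * (a ^ j)⁻¹ = t * z ^ j := by
    intro j
    induction j with
    | zero => simp
    | succ j ih =>
      calc a ^ (j + 1) * t * (a ^ (j + 1))⁻¹ = a * (a ^ j * t * (a ^ j)⁻¹) * a⁻¹ := by rw [pow_succ']; group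
        _ = a * t * (z ^ j * a⁻¹) := by rw [ih]; group
        _ = a * t * a⁻¹ * z ^ j := by rw [← mem_center_iff.1 (pow_mem hc j) a⁻¹]; group
        _ = t * z ^ (j + 1) := by rw [e, pow_succ', mul_assoc]
  have := k (orderOf a)
  rw [pow_orderOf_eq_one, one_mul, inv_one, mul_one, left_eq_mul] at this
  exact orderOf_eq_one_iff.1 ((PE.coprime hr hs hrs hz ha).eq_one_of_dvd (orderOf_dvd_of_pow_eq_one this))

theorem Cen.relIndex_lt {H : Subgroup G} {r s : ℕ} (h : Cen H X r) (hr : r.Prime) (hs : s.Prime) (hrs : r ≠ s)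
    {P : Subgroup G} (hP : IsPGroup s P) (hle : P ≤ H ⊓ normalizer (X : Set G)) :
    X.relIndex P < (center G).relIndex (Bs X r) := by
  obtain ⟨t, ht, hpt, hH⟩ := h.ex
  have htB := h.mem_iff.2 ⟨ht, hpt⟩
  have hn : P ≤ normalizer (Bs X r : Set G) := hle.trans (inf_le_right.trans (Core.normalizer_le_normalizer_pCoreOf X))
  refine index_lt_card _ (fun a : P => (QuotientGroup.mk ⟨a * t * a⁻¹, conj_mem_of_mem_normalizer (hn a.2) htB⟩ :
    Bs X r ⧸ (center G).subgroupOf (Bs X r))) (fun a b e => ?_) (QuotientGroup.mk 1) fun a e => ?_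
  · have e1 : ((a : G) * t * (a : G)⁻¹)⁻¹ * (b * t * (b : G)⁻¹) ∈ center G := mem_subgroupOf.1 (QuotientGroup.eq.1 e)
    obtain ⟨c, hc⟩ : ∃ c : P, c = a⁻¹ * b := ⟨_, rfl⟩
    have e2 : t⁻¹ * (c * t * (c : G)⁻¹) ∈ center G := by
      have := (inferInstance : (center G).Normal).conj_mem _ e1 (a : G)⁻¹
      simpa [hc, mul_assoc] using this
    have := eq_of_conj_mem_center hr hs hrs (isPGroup_zpowers_of_mem hP c.2) (t := t)
      (h.mem_iff.1 (mul_mem (inv_mem htB) (conj_mem_of_mem_normalizer (hn c.2) htB))).2 e2 (by group)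
    rw [← hc]
    exact h.eq t ht hpt hH ⟨(hle c.2).1, mem_cent_iff.2 (by
      rw [inv_mul_eq_one, eq_mul_inv_iff_mul_eq] at this; exact this.symm)⟩
  · have e1 : (a : G) * t * (a : G)⁻¹ ∈ center G := by simpa [mem_subgroupOf] using QuotientGroup.eq.1 e.symm
    have e2 : t ∈ center G := by simpa [mul_assoc] using (inferInstance : (center G).Normal).conj_mem _ e1 (a : G)⁻¹
    exact hH (by rw [cent_eq_top_iff.2 e2]; exact le_top)

theorem NF.false_of_three (h : NF G m n) (h3 : Three G) : False := by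
  obtain ⟨x, y, p, hp, hpy, hy, hle, hne⟩ := h.ex'
  have u : Uy m n p y := ⟨h, h3, hp, hpy, hy, (h.small_of_ne hy hle hne).2, fun c =>
    hne (le_antisymm hle (c x (hle (self_mem_cent x))))⟩
  obtain ⟨r, hr, hrp, -⟩ := h3 p p
  obtain ⟨t, ht, htp, htr⟩ := h3 p r
  obtain ⟨w, hw, hwc, hpw⟩ := h.exists_pe hr hy
  obtain ⟨X, hX⟩ : ∃ X, IsX p y X := ⟨_, r, w, hr.1, hrp, hw, hpw, hwc, rfl⟩
  obtain ⟨hXn, x, hx, ex⟩ := u.small hX
  obtain ⟨q, v, hq, hqp, hv, hpv, hvc, hvX⟩ : ∃ (q : ℕ) (v : G), q.Prime ∧ q ≠ p ∧ v ∈ X ∧ PE q v ∧ v ∉ center G ∧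
      C[v] ≠ X := by
    by_contra c
    push Not at c
    have nc : ∀ v : G, ¬ ⊤ ≤ C[v] ↔ v ∉ center G := fun v => by rw [top_le_iff, cent_eq_top_iff]
    have F : ∀ s, Pi G s → s ≠ p → Cen ⊤ X s ∧ s ∣ X.relIndex ⊤ := fun s hs hsp =>
      ⟨⟨le_top, by
        obtain ⟨τ, hτ, hτc, hpτ⟩ := h.exists_pe hs hx
        exact ⟨τ, ex ▸ hτ, hpτ, (nc τ).2 hτc⟩, fun v hv hpv => u.cen hX hs.1 hsp hv hpv, fun v hv hpv hn =>
        inf_le_right.trans (c s v hs.1 hsp hv hpv ((nc v).1 hn)).le⟩, by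
        rw [relIndex_top_right, hXn]; exact h.dvd_n hs⟩
    exact (F r hr hrp).1.not_dvd (F t ht htp).1 hr.1 ht.1 htr.symm (F r hr hrp).2 (F t ht htp).2
  have hXv := u.cen hX hq hqp hv hpv
  have hyX : y ∈ X := by
    rw [u.eq_inf hX hq hqp hv hpv hvc]; exact ⟨self_mem_cent y, mem_cent_comm.1 (hX.le hv)⟩
  have u' : Uy m n q v := ⟨h, h3, hq, hpv, hvc, (h.small_of_ne hvc (ex ▸ hXv) (ex ▸ hvX.symm)).2, fun c =>
    hvX (le_antisymm (ex ▸ c x (hXv (ex ▸ self_mem_cent x))) hXv)⟩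
  have hX' : IsX q v X := ⟨p, y, hp, hqp.symm, hXv hyX, hpy, hy, by rw [inf_comm]; exact u.eq_inf hX hq hqp hv hpv hvc⟩
  have hk : X.relIndex C[v] = X.relIndex C[y] := by
    have h1 := relIndex_mul_index hXv
    rw [← relIndex_mul_index hX.le, u'.large, u.large] at h1
    exact Nat.eq_of_mul_eq_mul_right (u.large ▸ cs_pos y) h1
  have hk1 : X.relIndex C[y] ≠ 1 := fun c => u.not_le hq hqp hpv hvc ((relIndex_eq_one.1 c).trans hXv)
  have A : ∀ {p q : ℕ} {y v : G}, Uy m n p y → Uy m n q v → q ≠ p → IsX p y X → IsX q v X →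
      X.relIndex C[v] = X.relIndex C[y] → X.relIndex C[y] ≠ 1 →
      ¬ C[y] ≤ normalizer (X : Set G) ∧ p ∣ X.relIndex C[y] := by
    intro p q y v u u' hqp hX hX' hk hk1
    have hn : ¬ C[y] ≤ normalizer (X : Set G) := fun c => by
      have c' : C[v] ≤ normalizer (X : Set G) := by
        by_contra c'
        obtain ⟨s, hs, hd⟩ := Nat.exists_prime_and_dvd (n := (C[v] ⊓ normalizer (X : Set G)).relIndex C[v])
          fun d => c' ((relIndex_eq_one.1 d).trans inf_le_right)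
        exact hqp ((u'.eq_of_dvd hX' hs hd).symm.trans (u.eq_of_normal hX c hs
          (hk ▸ hd.trans (relIndex_dvd_of_le_left _ (le_inf hX'.le le_normalizer)))))
      obtain ⟨s, hs, hd⟩ := Nat.exists_prime_and_dvd hk1
      exact hqp ((u'.eq_of_normal hX' c' hs (hk ▸ hd)).symm.trans (u.eq_of_normal hX c hs hd))
    obtain ⟨s, hs, hd⟩ := Nat.exists_prime_and_dvd (n := (C[y] ⊓ normalizer (X : Set G)).relIndex C[y])
      fun d => hn ((relIndex_eq_one.1 d).trans inf_le_right)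
    exact ⟨hn, u.eq_of_dvd hX hs hd ▸ hd.trans (relIndex_dvd_of_le_left _ (le_inf hX.le le_normalizer))⟩
  obtain ⟨hn, -⟩ := A u u' hqp hX hX' hk hk1
  obtain ⟨-, hqd⟩ := A u' u hqp.symm hX' hX hk.symm (hk ▸ hk1)
  obtain ⟨s, hs, hsp, hsd⟩ := u.exists_not_dvd hX
  have hsq : s ≠ q := fun c => hsd (c ▸ hk ▸ hqd)
  have l1 := u.lt_relIndex hX hs hsp hsd hn
  haveI := Fact.mk hp
  obtain ⟨P, hP⟩ := exists_sylowIn (p := p) (C[v] ⊓ normalizer (X : Set G))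
  have l2 := (u'.isCen hX' hs hsq).relIndex_lt hs.1 hp hsp hP.isPGroup hP.le
  have hXN : X ≤ C[v] ⊓ normalizer (X : Set G) := le_inf hX'.le le_normalizer
  have d : (C[y] ⊓ normalizer (X : Set G)).relIndex C[y] ∣ X.relIndex C[v] :=
    hk ▸ relIndex_dvd_of_le_left _ (le_inf hX.le le_normalizer)
  rw [← relIndex_mul_relIndex X _ _ hXN inf_le_left, ← relIndex_mul_relIndex X (P ⊔ X) _ le_sup_right (sup_le hP.le hXN),
    Core.relIndex_sup_of_le_normalizer (hP.le.trans inf_le_right)] at d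
  have d1 := Nat.Coprime.dvd_of_dvd_mul_right (Nat.coprime_of_dvd fun k hk' a b =>
    hqp ((u'.eq_of_dvd hX' hk' b).symm.trans (u.eq_of_dvd hX hk' a))) d
  have d2 := Nat.Coprime.dvd_of_dvd_mul_right (Nat.coprime_of_dvd fun k hk' a b =>
    hP.not_dvd (u.eq_of_dvd hX hk' a ▸ b.trans (relIndex_dvd_of_le_left _ le_sup_left))) d1
  exact absurd (Nat.le_of_dvd (Nat.pos_of_ne_zero index_ne_zero_of_finite) d2) (not_le.2 (l2.trans l1))

end Cfsg.Lib.CS3
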