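import Cfsg.Agent.Lib.Hall.ClassSize
import Cfsg.Agent.Lib.BN.TI

/-! # The `W`-lemma: a group acting on an abelian `r`-group and an abelian `t`-group such that a vector fixed by one
non-identity element is fixed by all does not have order divisible by both `r` and `t`. -/

set_option autoImplicit false
set_option linter.unusedSectionVars false

namespace Cfsg.Lib.CS3

open Subgroup Cfsg.Lib.Hall

variable {W : Type*} [Group W] [Finite W]

/-- a vector fixed by one non-identity element is fixed by everything; the action is not trivial -/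
structure FixAct (W V : Type*) [Group W] [CommGroup V] [MulDistribMulAction W V] : Prop where
  fix : ∀ x : W, x ≠ 1 → ∀ v : V, x • v = v → ∀ y : W, y • v = v
  nontriv : ∃ v : V, ∃ y : W, y • v ≠ v

variable {V : Type*} [CommGroup V] [Finite V] [MulDistribMulAction W V]

/-- the vectors fixed by `W` -/
def fixS (W V : Type*) [Group W] [CommGroup V] [MulDistribMulAction W V] : Subgroup V where
  carrier := {v | ∀ y : W, y • v = v}
  mul_mem' := fun ha hb y => by rw [smul_mul', ha y, hb y]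
  one_mem' := fun y => smul_one y
  inv_mem' := fun ha y => by rw [smul_inv', ha y]

theorem mem_fixS {v : V} : v ∈ fixS W V ↔ ∀ y : W, y • v = v := Iff.rfl

theorem mem_of_pow_mem {r n : ℕ} (_hr : r.Prime) (hV : IsPGroup r V) (hn : n.Coprime r) {Y : Subgroup V} {v : V}
    (h : v ^ n ∈ Y) : v ∈ Y := by
  obtain ⟨k, hk⟩ := hV v
  exact mem_of_pow_mem_of_coprime
    ((hn.pow_right k).coprime_dvd_right (orderOf_dvd_of_pow_eq_one hk)) h

theorem FixAct.no_comm (H : FixAct W V) {r u : ℕ} (hr : r.Prime) (hV : IsPGroup r V) (hu : u.Coprime r) {g h : W}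
    (hg : IsPGroup r (zpowers g)) (hg1 : g ≠ 1) (hh : h ^ u = 1) (hh1 : h ≠ 1) (hc : g * h = h * g) : False := by
  classical
  haveI := Fact.mk hr
  let U : SubMulAction (zpowers g) V :=
    { carrier := {w | ∃ v, w = h • v * v⁻¹}
      smul_mem' := by
        rintro c _ ⟨v, rfl⟩
        refine ⟨(c : W) • v, ?_⟩
        have : Commute (c : W) h := by
          obtain ⟨_, n, rfl⟩ := c
          exact Commute.zpow_left hc n
        change (c : W) • (h • v * v⁻¹) = _
        rw [smul_mul', smul_inv', smul_smul, smul_smul, this.eq] }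
  let δ : V →* V := (MulDistribMulAction.toMonoidHom V h) / MonoidHom.id V
  have hδ : ∀ v, δ v = h • v * v⁻¹ := fun v => by simp [δ, div_eq_mul_inv]
  have hcard : Nat.card U = Nat.card δ.range := by
    refine Nat.card_congr (Equiv.subtypeEquivRight fun w => ?_)
    exact ⟨fun ⟨v, hv⟩ => ⟨v, by rw [hδ, hv]⟩, fun ⟨v, hv⟩ => ⟨v, by rw [← hv, hδ]⟩⟩
  have hne : δ.range ≠ ⊥ := by
    intro hb
    obtain ⟨v, y, hv⟩ := H.nontriv
    apply hv
    refine H.fix h hh1 v ?_ y
    have : δ v = 1 := by rw [← mem_bot, ← hb]; exact ⟨v, rfl⟩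
    rwa [hδ, mul_inv_eq_one] at this
  have hdvd : r ∣ Nat.card U := by
    rw [hcard]
    exact ((hV.to_subgroup δ.range).card_eq_or_dvd).resolve_left (by rwa [Subgroup.card_eq_one])
  obtain ⟨⟨b, v, rfl⟩, hb, hb1⟩ := hg.exists_fixed_point_of_prime_dvd_card_of_fixed_point U hdvd
    (a := ⟨1, 1, by simp⟩) (fun c => Subtype.ext (smul_one (c : W)))
  have hY : h • v * v⁻¹ ∈ fixS W V :=
    H.fix g hg1 _ (congrArg Subtype.val (hb ⟨g, mem_zpowers g⟩))
  apply hb1
  apply Subtype.ext
  change 1 = h • v * v⁻¹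
  obtain ⟨w, hw⟩ : ∃ w, w = h • v * v⁻¹ := ⟨_, rfl⟩
  rw [← hw] at hY ⊢
  have hv : h • v = w * v := by rw [hw]; simp
  have hj : ∀ j : ℕ, h ^ j • v = w ^ j * v := by
    intro j
    induction j with
    | zero => simp
    | succ j ih => rw [pow_succ', mul_smul, ih, smul_mul', hv, (fixS W V).pow_mem hY j h, pow_succ, mul_assoc]
  have := hj u
  rw [hh, one_smul, right_eq_mul] at this
  have h2 : w ∈ (⊥ : Subgroup V) := mem_of_pow_mem hr hV hu (by rw [this]; exact one_mem _)
  exact (mem_bot.1 h2).symm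

theorem smul_norm {x : W} {u : ℕ} (hx : x ^ u = 1) (v : V) :
    x • ∏ j ∈ Finset.range u, x ^ j • v = ∏ j ∈ Finset.range u, x ^ j • v := by
  rw [Finset.smul_prod']
  have h1 := Finset.prod_range_succ (fun j => x ^ j • v) u
  have h2 := Finset.prod_range_succ' (fun j => x ^ j • v) u
  rw [h1, hx, pow_zero] at h2
  simp only [smul_smul, ← pow_succ']
  exact (mul_right_cancel h2).symm

theorem FixAct.pow_card_mem (H : FixAct W V) {A : Subgroup W} (hA : A ≠ ⊥) {h : W} (hn : h ∈ normalizer (A : Set W))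
    (hhA : h ∉ A) {u : ℕ} (hu : u.Prime) (hp : ∀ a ∈ A, (h * a) ^ u = 1) (v : V) : v ^ Nat.card A ∈ fixS W V := by
  classical
  haveI := Fintype.ofFinite A
  obtain ⟨n, rfl⟩ : ∃ n, u = n + 1 := ⟨u - 1, by have := hu.pos; omega⟩
  have hNA : ∏ a : A, (a : W) • v ∈ fixS W V := by
    obtain ⟨⟨a₀, ha₀⟩, h1⟩ := (Subgroup.ne_bot_iff_exists_ne_one).1 hA
    refine H.fix a₀ (fun e => h1 (Subtype.ext e)) _ ?_
    rw [Finset.smul_prod']
    simp only [smul_smul]
    exact Fintype.prod_equiv (Equiv.mulLeft (⟨a₀, ha₀⟩ : A)) _ _ fun a => rfl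
  have hP : ∏ a : A, ∏ j ∈ Finset.range (n + 1), (h * a) ^ j • v ∈ fixS W V := by
    refine prod_mem fun a _ => H.fix (h * a) ?_ _ (smul_norm (hp a a.2) v)
    intro e
    apply hhA
    rw [eq_inv_of_mul_eq_one_left e]
    exact A.inv_mem a.2
  rw [Finset.prod_comm, Finset.prod_range_succ'] at hP
  simp only [pow_zero, one_smul, Finset.prod_const, Finset.card_univ, ← Nat.card_eq_fintype_card] at hP
  refine (mul_mem_cancel_left (prod_mem fun j hj => ?_)).1 hP
  have hmem : ∀ (a : A) (i : ℕ), (h ^ i)⁻¹ * (h * a) ^ i ∈ A := by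
    intro a i
    induction i with
    | zero => simp
    | succ i ih =>
      have : (h ^ (i + 1))⁻¹ * (h * a) ^ (i + 1) = h⁻¹ * ((h ^ i)⁻¹ * (h * a) ^ i) * h * a := by
        rw [pow_succ h, pow_succ (h * a)]; group
      rw [this]
      refine A.mul_mem ?_ a.2
      have := (mem_normalizer_iff.1 ((normalizer (A : Set W)).inv_mem hn) _).1 ih
      simpa using this
  let σ : A → A := fun a => ⟨_, hmem a (j + 1)⟩
  have hσ : Function.Injective σ := by
    intro a b hab
    have e : (h * a) ^ (j + 1) = (h * b) ^ (j + 1) := mul_left_cancel (congrArg Subtype.val hab)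
    have hc : (j + 1).Coprime (n + 1) :=
      ((Nat.coprime_of_lt_prime (by omega) (by have := Finset.mem_range.1 hj; omega) hu)).symm
    obtain ⟨m, -, hm⟩ := Nat.exists_mul_mod_eq_one_of_coprime hc hu.one_lt
    have k : ∀ c : A, ((h * c) ^ (j + 1)) ^ m = h * c := fun c => by
      rw [← pow_mul, ← pow_mod_orderOf, ← Nat.mod_mod_of_dvd _ (orderOf_dvd_of_pow_eq_one (hp c c.2)), hm,
        pow_mod_orderOf, pow_one]
    have := k a
    rw [e, k b] at this
    exact Subtype.ext (mul_left_cancel this).symm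
  have : ∏ a : A, (h * a) ^ (j + 1) • v = h ^ (j + 1) • ∏ a : A, (a : W) • v := by
    rw [Finset.smul_prod']
    refine Fintype.prod_bijective σ (Finite.injective_iff_bijective.1 hσ) _ _ fun a => ?_
    simp [σ, smul_smul]
  rw [this, hNA]
  exact hNA

variable {V' : Type*} [CommGroup V'] [Finite V'] [MulDistribMulAction W V']

theorem FixAct.mem_of_prime (H : FixAct W V) (H' : FixAct W V') {r t : ℕ} (hr : r.Prime) (ht : t.Prime) (hrt : r ≠ t)
    (hV : IsPGroup r V) (hV' : IsPGroup t V') {g : W} (hg : orderOf g = r) {h : W}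
    (hn : h ∈ normalizer ((zpowers g : Subgroup W) : Set W)) (hu : (orderOf h).Prime) : h ∈ zpowers g := by
  haveI := Fact.mk hr
  by_contra hh
  have hcard : Nat.card (zpowers g) = r := by rw [Nat.card_zpowers, hg]
  have hP : IsPGroup r (zpowers g) := IsPGroup.of_card (n := 1) (by rw [hcard, pow_one])
  have hg1 : g ≠ 1 := fun e => hr.ne_one (by rw [← hg, e, orderOf_one])
  have hmem : ∀ (a : W), a ∈ zpowers g → ∀ i : ℕ, (h ^ i)⁻¹ * (h * a) ^ i ∈ zpowers g := by
    intro a ha i
    induction i with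
    | zero => simp
    | succ i ih =>
      have : (h ^ (i + 1))⁻¹ * (h * a) ^ (i + 1) = h⁻¹ * ((h ^ i)⁻¹ * (h * a) ^ i) * h * a := by
        rw [pow_succ h, pow_succ (h * a)]; group
      rw [this]
      refine (zpowers g).mul_mem ?_ ha
      have := (mem_normalizer_iff.1 ((normalizer _).inv_mem hn) _).1 ih
      simpa using this
  have hp : ∀ a ∈ zpowers g, (h * a) ^ orderOf h = 1 := by
    intro a ha
    by_cases hur : orderOf h = r
    · have hc : Commute h g := by
        have hP' : IsPGroup r (zpowers h) := IsPGroup.of_card (n := 1) (by rw [Nat.card_zpowers, hur, pow_one])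
        obtain ⟨⟨b, hb, hbc⟩, hb1⟩ := (Subgroup.ne_bot_iff_exists_ne_one).1
          (Core.inf_centralizer_ne_bot_of_isPGroup hP hP' (zpowers_le.2 hn) (by rwa [Ne, zpowers_eq_bot]))
        have hgb : g ∈ zpowers b := by
          have hle : zpowers b ≤ zpowers g := zpowers_le.2 hb
          have hd := Subgroup.card_dvd_of_le hle
          rw [hcard] at hd
          rcases (Nat.dvd_prime hr).1 hd with e | e
          · exact absurd (zpowers_eq_bot.1 (Subgroup.card_eq_one.1 e)) fun e' => hb1 (Subtype.ext e')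
          · rw [Subgroup.eq_of_le_of_card_ge hle (by rw [hcard, e])]; exact mem_zpowers g
        obtain ⟨n, rfl⟩ := hgb
        exact Commute.zpow_right (hbc h (mem_zpowers h)) n
      have hc' : Commute h a := by
        obtain ⟨n, rfl⟩ := ha
        exact hc.zpow_right n
      rw [hc'.mul_pow, pow_orderOf_eq_one, one_mul, hur, ← hcard]
      exact congrArg Subtype.val (pow_card_eq_one' (x := (⟨a, ha⟩ : zpowers g)))
    · by_contra hne
      have hx := hmem a ha (orderOf h)
      rw [pow_orderOf_eq_one, inv_one, one_mul] at hx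
      have hcop : (orderOf h).Coprime r := (Nat.coprime_primes hu hr).2 hur
      refine H.no_comm hr hV hcop (g := (h * a) ^ orderOf h) (h := (h * a) ^ r)
        (isPGroup_zpowers_of_mem hP hx) hne ?_ ?_ ((Commute.refl _).pow_pow _ _)
      · rw [← pow_mul, mul_comm, pow_mul, ← hcard]
        exact congrArg Subtype.val (pow_card_eq_one' (x := (⟨_, hx⟩ : zpowers g)))
      · intro e
        have h1 := hmem a ha r
        rw [e, mul_one, inv_mem_iff] at h1
        exact hh (mem_of_pow_mem_of_coprime hcop.symm h1)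
  obtain ⟨v, y, hv⟩ := H'.nontriv
  have := H'.pow_card_mem (by rwa [Ne, zpowers_eq_bot]) hn hh hu hp v
  rw [hcard] at this
  exact hv (mem_of_pow_mem ht hV' ((Nat.coprime_primes hr ht).2 hrt) this y)

theorem FixAct.sylow_ti (H : FixAct W V) (H' : FixAct W V') {r t : ℕ} [hr : Fact r.Prime] (ht : t.Prime) (hrt : r ≠ t)
    (hV : IsPGroup r V) (hV' : IsPGroup t V') (R : Sylow r W) (hR : (R : Subgroup W) ≠ ⊥) {g a : W}
    (ha : a ∈ (R : Subgroup W)) (ha1 : a ≠ 1) (hg : g⁻¹ * a * g ∈ (R : Subgroup W)) : g ∈ (R : Subgroup W) := by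
  obtain ⟨⟨z₀, hz₀, hz₀c⟩, hz1⟩ := (Subgroup.ne_bot_iff_exists_ne_one).1
    (Core.inf_centralizer_ne_bot_of_isPGroup R.isPGroup' R.isPGroup' le_normalizer hR)
  have pw : ∀ b ∈ (R : Subgroup W), b ≠ 1 → ∃ k : ℕ, orderOf (b ^ k) = r := by
    intro b hb hb1
    obtain ⟨k, hk⟩ := (isPGroup_zpowers_iff hr.out).1 (isPGroup_zpowers_of_mem R.isPGroup' hb)
    have hd : r ∣ orderOf b := by
      rw [hk]; refine dvd_pow_self r fun e => hb1 ?_
      rw [e, pow_zero] at hk; exact orderOf_eq_one_iff.1 hk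
    exact ⟨orderOf b / r, orderOf_pow_orderOf_div (orderOf_pos b).ne' hd⟩
  obtain ⟨k, hz⟩ := pw z₀ hz₀ fun e => hz1 (Subtype.ext e)
  obtain ⟨z, hzd⟩ : ∃ z, z = z₀ ^ k := ⟨_, rfl⟩
  rw [← hzd] at hz
  have hRN : (R : Subgroup W) ≤ normalizer ((zpowers z : Subgroup W) : Set W) := by
    refine le_trans ?_ (centralizer_le_normalizer _)
    rintro x hx _ ⟨n, rfl⟩
    rw [hzd]
    exact ((Commute.pow_right (hz₀c x hx) k).zpow_right n).symm
  have hN : normalizer ((zpowers z : Subgroup W) : Set W) = R := by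
    refine R.is_maximal' ?_ hRN
    refine (Core.isPGroup_iff_isPiNumber hr.out).2 fun u hu hd => ?_
    haveI := Fact.mk hu
    obtain ⟨x, hx⟩ := exists_prime_orderOf_dvd_card' u hd
    have hx' : orderOf (x : W) = u := by rw [Subgroup.orderOf_coe, hx]
    have := H.mem_of_prime H' hr.out ht hrt hV hV' hz x.2 (hx' ▸ hu)
    have hd := orderOf_dvd_of_mem_zpowers this
    rw [hx', hz] at hd
    exact (Nat.prime_dvd_prime_iff_eq hu hr.out).1 hd
  have key : ∀ b ∈ (R : Subgroup W), orderOf b = r → zpowers b = zpowers z := by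
    intro b hb ho
    refine Subgroup.eq_of_le_of_card_ge (zpowers_le.2
      (H.mem_of_prime H' hr.out ht hrt hV hV' hz (hRN hb) (ho ▸ hr.out))) ?_
    rw [Nat.card_zpowers, Nat.card_zpowers, ho, hz]
  obtain ⟨j, hj⟩ := pw a ha ha1
  have e1 := key _ ((R : Subgroup W).pow_mem ha j) hj
  have e2 := key (g⁻¹ * a ^ j * g) (by
    have := (R : Subgroup W).pow_mem hg j
    rwa [show (g⁻¹ * a * g) ^ j = g⁻¹ * a ^ j * g by simpa using conj_pow (a := g⁻¹) (b := a) (i := j)] at this)
    (by rw [← hj]; simpa using (MulAut.conj g⁻¹).orderOf_eq (a ^ j))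
  rw [← hN, ← inv_mem_iff]
  refine Subgroup.mem_normalizer_fintype fun n hn => ?_
  rw [SetLike.mem_coe, ← e1] at hn
  obtain ⟨i, rfl⟩ := hn
  rw [SetLike.mem_coe, ← e2]
  exact ⟨i, by simpa using conj_zpow (a := g⁻¹) (b := a ^ j) (i := i)⟩

theorem FixAct.not_dvd (H : FixAct W V) (H' : FixAct W V') {r t : ℕ} (hr : r.Prime) (ht : t.Prime) (hrt : r ≠ t)
    (hV : IsPGroup r V) (hV' : IsPGroup t V') (h1 : r ∣ Nat.card W) (h2 : t ∣ Nat.card W) : False := by
  haveI := Fact.mk hr
  haveI := Fact.mk ht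
  obtain ⟨R⟩ : Nonempty (Sylow r W) := inferInstance
  obtain ⟨T⟩ : Nonempty (Sylow t W) := inferInstance
  have hR := R.ne_bot_of_dvd_card h1
  have hT := T.ne_bot_of_dvd_card h2
  have c1 := BN.card_tiCover (M := ⊤) (T := R) (N := R) le_top
    (fun g hg x hx => mul_mem (mul_mem (inv_mem hg) hx) hg)
    (fun g _ a ha ha1 hg => H.sylow_ti H' ht hrt hV hV' R hR ha ha1 hg)
  have c2 := BN.card_tiCover (M := ⊤) (T := T) (N := T) le_top
    (fun g hg x hx => mul_mem (mul_mem (inv_mem hg) hx) hg)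
    (fun g _ a ha ha1 hg => H'.sylow_ti H hr hrt.symm hV' hV T hT ha ha1 hg)
  rw [Subgroup.card_top, Nat.card_coe_set_eq] at c1 c2
  have hdisj : Disjoint (BN.tiCover ⊤ (R : Subgroup W)) (BN.tiCover ⊤ (T : Subgroup W)) := by
    rw [Set.disjoint_left]
    rintro x ⟨hx1, g, -, hg⟩ ⟨-, g', -, hg'⟩
    have := coprime_orderOf_of_isPGroup hr (isPGroup_zpowers_of_mem R.isPGroup' hg)
      (n := orderOf (g'⁻¹ * x * g')) (coprime_orderOf_of_isPGroup ht (isPGroup_zpowers_of_mem T.isPGroup' hg')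
        ((Nat.coprime_primes hr ht).2 hrt))
    rw [show orderOf (g⁻¹ * x * g) = orderOf x by simpa using (MulAut.conj g⁻¹).orderOf_eq x,
      show orderOf (g'⁻¹ * x * g') = orderOf x by simpa using (MulAut.conj g'⁻¹).orderOf_eq x,
      Nat.coprime_self, orderOf_eq_one_iff] at this
    exact hx1 this
  have hlt : (BN.tiCover ⊤ (R : Subgroup W) ∪ BN.tiCover ⊤ (T : Subgroup W)).ncard < Nat.card W := by
    rw [← Set.ncard_univ]
    refine Set.ncard_lt_ncard ⟨Set.subset_univ _, fun h => ?_⟩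
    rcases h (Set.mem_univ 1) with h | h <;> exact h.1 rfl
  rw [Set.ncard_union_eq hdisj] at hlt
  have k1 := (R : Subgroup W).one_lt_card_iff_ne_bot.2 hR
  have k2 := (T : Subgroup W).one_lt_card_iff_ne_bot.2 hT
  have f : ∀ {c a n : ℕ}, c * a = (a - 1) * n → 1 < a → n ≤ 2 * c := by
    intro c a n e ha
    obtain ⟨b, rfl⟩ : ∃ b, a = b + 2 := ⟨a - 2, by omega⟩
    rw [show b + 2 - 1 = b + 1 by omega] at e
    nlinarith
  have := f c1 k1
  have := f c2 k2
  omega

end Cfsg.Lib.CS3
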