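import Cfsg.Agent.Lib.CS3.W
import Cfsg.Agent.Lib.Coprime.Action
import Cfsg.Agent.Lib.Transfer.SylowIn

/-! # The `W`-lemma for subgroups -/

set_option autoImplicit false
set_option linter.unusedSectionVars false

namespace Cfsg.Lib.CS3

open Subgroup Cfsg.Lib.Hall Cfsg.Lib.Transfer

universe u

variable {G : Type u} [Group G] [Finite G]

scoped notation "C[" x "]" => Subgroup.centralizer (Singleton.singleton x : Set _)

/-- `x` is a `p`-element -/
abbrev PE (p : ℕ) (x : G) : Prop := IsPGroup p (zpowers x)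

theorem PE.conj {p : ℕ} {x : G} (h : PE p x) (g : G) : PE p (g * x * g⁻¹) := by
  obtain ⟨k, hk⟩ := Core.isPGroup_iff_forall_mem.1 h x (mem_zpowers x)
  exact Core.isPGroup_zpowers_of_pow_eq_one (k := k) (by rw [conj_pow, hk]; simp)

theorem PE.coprime {p q : ℕ} (hp : p.Prime) (hq : q.Prime) (h : p ≠ q) {x y : G} (hx : PE p x) (hy : PE q y) :
    (orderOf x).Coprime (orderOf y) :=
  coprime_orderOf_of_isPGroup hp hx (coprime_orderOf_of_isPGroup hq hy ((Nat.coprime_primes hp hq).2 h))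

theorem cj_cent (g x : G) : cj g C[x] = C[g * x * g⁻¹] := by rw [cent_conj, cj_eq_smul]

/-- the `s`-elements of `C` are central in `C`, not all central in `H`, and those not central in `H` have centraliser
`C` in `H` -/
structure Cen (H C : Subgroup G) (s : ℕ) : Prop where
  le : C ≤ H
  ex : ∃ v ∈ C, PE s v ∧ ¬ H ≤ C[v]
  cen : ∀ v ∈ C, PE s v → C ≤ C[v]
  eq : ∀ v ∈ C, PE s v → ¬ H ≤ C[v] → H ⊓ C[v] ≤ C

/-- `O_s(C)` -/
abbrev Bs (C : Subgroup G) (s : ℕ) : Subgroup G := (pCore s C).map C.subtype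

variable {H C : Subgroup G} {s : ℕ}

theorem Cen.mem_iff (h : Cen H C s) {v : G} : v ∈ Bs C s ↔ v ∈ C ∧ PE s v :=
  ⟨fun hv => ⟨Core.pCoreOf_le C hv, isPGroup_zpowers_of_mem (Core.isPGroup_pCoreOf C) hv⟩, fun ⟨h1, h2⟩ =>
    Core.le_pCoreOf (zpowers_le.2 h1) (le_trans (fun c hc => by
      rintro _ ⟨n, rfl⟩
      exact (Commute.zpow_right (mem_cent_iff.1 (h.cen v h1 h2 hc)) n).symm) (centralizer_le_normalizer _)) h2
      (mem_zpowers v)⟩

theorem Cen.le_cent (h : Cen H C s) : C ≤ centralizer (Bs C s : Set G) := fun _ hc v hv =>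
  (mem_cent_iff.1 (h.cen v (h.mem_iff.1 hv).1 (h.mem_iff.1 hv).2 hc)).symm

theorem Cen.norm (h : Cen H C s) {g : G} (hg : g ∈ H) (hn : g ∈ normalizer (Bs C s : Set G)) :
    g ∈ normalizer (C : Set G) := by
  obtain ⟨v, hv, hp, hH⟩ := h.ex
  refine mem_normalizer_of_cj_le (le_trans (le_inf ((cj_mono g h.le).trans (cj_eq_of_mem hg).le) ?_) (h.eq v hv hp hH))
  have := cj_mono g h.le_cent
  rw [cj_centralizer, cj_eq_of_mem_normalizer hn] at this
  exact this.trans (centralizer_le (Set.singleton_subset_iff.2 (h.mem_iff.2 ⟨hv, hp⟩)))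

theorem Cen.exists_norm (h : Cen H C s) (hs : s.Prime) (hd : s ∣ C.relIndex H) :
    ∃ g ∈ H, g ∈ normalizer (C : Set G) ∧ g ∉ C ∧ PE s g := by
  haveI := Fact.mk hs
  have hB : Bs C s ≤ C := Core.pCoreOf_le C
  obtain ⟨T, hT1, hT⟩ := exists_sylowIn_ge (Core.isPGroup_pCoreOf (p := s) C) (hB.trans h.le)
  have hlt : Bs C s < T := lt_of_le_of_ne hT1 fun e => hT.not_dvd (by
    rw [← e]; exact hd.trans (relIndex_dvd_of_le_left H hB))
  obtain ⟨g, ⟨hg1, hg2⟩, hg3⟩ := SetLike.exists_of_lt (lt_inf_normalizer hT.isPGroup hlt)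
  have hp := isPGroup_zpowers_of_mem hT.isPGroup hg1
  exact ⟨g, hT.le hg1, h.norm (hT.le hg1) hg2, fun hc => hg3 (h.mem_iff.2 ⟨hc, hp⟩), hp⟩

instance normal_inf_normalizer (H C : Subgroup G) : (C.subgroupOf (H ⊓ normalizer (C : Set G))).Normal :=
  normal_subgroupOf_of_le_normalizer inf_le_right

theorem Cen.fixAct (h : Cen H C s) (hne : ∃ g ∈ H, g ∈ normalizer (C : Set G) ∧ g ∉ C) :
    ∃ (V : Type u) (_ : CommGroup V) (_ : Finite V)
      (_ : MulDistribMulAction (↥(H ⊓ normalizer (C : Set G)) ⧸ C.subgroupOf (H ⊓ normalizer (C : Set G))) V),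
      IsPGroup s V ∧ FixAct (↥(H ⊓ normalizer (C : Set G)) ⧸ C.subgroupOf (H ⊓ normalizer (C : Set G))) V := by
  have hB : Bs C s ≤ C := Core.pCoreOf_le C
  have hn : H ⊓ normalizer (C : Set G) ≤ normalizer (Bs C s : Set G) :=
    inf_le_right.trans (Core.normalizer_le_normalizer_pCoreOf C)
  letI : CommGroup (Bs C s) :=
    { (inferInstance : Group (Bs C s)) with
      mul_comm := fun a b => Subtype.ext (h.le_cent (hB b.2) a a.2) }
  let φ := QuotientGroup.lift (C.subgroupOf (H ⊓ normalizer (C : Set G))) (Coprime.conjAut hn)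
    (fun a ha => (Coprime.mem_ker_conjAut hn a).2 (h.le_cent ha))
  letI := MulDistribMulAction.compHom (Bs C s) φ
  have hsm : ∀ (a : ↥(H ⊓ normalizer (C : Set G))) (v : Bs C s),
      (QuotientGroup.mk a : _ ⧸ C.subgroupOf (H ⊓ normalizer (C : Set G))) • v = v ↔ (a : G) * v = v * a :=
    fun a v => Coprime.conjAut_eq_iff hn a v
  refine ⟨Bs C s, inferInstance, inferInstance, inferInstance, Core.isPGroup_pCoreOf C, ?_, ?_⟩
  · intro x hx v hv y
    obtain ⟨a, rfl⟩ := QuotientGroup.mk_surjective x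
    obtain ⟨b, rfl⟩ := QuotientGroup.mk_surjective y
    rw [hsm] at hv ⊢
    by_cases hH : H ≤ C[(v : G)]
    · exact mem_cent_iff.1 (hH b.2.1)
    · exact absurd ((QuotientGroup.eq_one_iff a).2
        (h.eq v (hB v.2) (h.mem_iff.1 v.2).2 hH ⟨a.2.1, mem_cent_iff.2 hv⟩)) hx
  · obtain ⟨v, hv, hp, hH⟩ := h.ex
    obtain ⟨g, hg1, hg2, hg3⟩ := hne
    refine ⟨⟨v, h.mem_iff.2 ⟨hv, hp⟩⟩, QuotientGroup.mk ⟨g, hg1, hg2⟩, fun e => hg3 ?_⟩
    exact h.eq v hv hp hH ⟨hg1, mem_cent_iff.2 ((hsm _ _).1 e)⟩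

theorem Cen.dvd_card (h : Cen H C s) (hs : s.Prime) (hd : s ∣ C.relIndex H) :
    s ∣ Nat.card (↥(H ⊓ normalizer (C : Set G)) ⧸ C.subgroupOf (H ⊓ normalizer (C : Set G))) := by
  obtain ⟨g, hg1, hg2, hg3, hp⟩ := h.exists_norm hs hd
  obtain ⟨k, hk⟩ := Core.isPGroup_iff_forall_mem.1 hp g (mem_zpowers g)
  let x : ↥(H ⊓ normalizer (C : Set G)) ⧸ C.subgroupOf (H ⊓ normalizer (C : Set G)) := QuotientGroup.mk ⟨g, hg1, hg2⟩
  have hx : PE s x := Core.isPGroup_zpowers_of_pow_eq_one (k := k) (by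
    rw [← QuotientGroup.mk_pow, show (⟨g, hg1, hg2⟩ : ↥(H ⊓ normalizer (C : Set G))) ^ s ^ k = 1 from Subtype.ext hk]
    rfl)
  refine (Core.dvd_card_of_isPGroup_of_ne_bot hs hx ?_).trans (card_subgroup_dvd_card _)
  rw [Ne, zpowers_eq_bot]
  exact fun e => hg3 ((QuotientGroup.eq_one_iff (⟨g, hg1, hg2⟩ : ↥(H ⊓ normalizer (C : Set G)))).1 e)

theorem Cen.not_dvd {r t : ℕ} (h : Cen H C r) (h' : Cen H C t) (hr : r.Prime) (ht : t.Prime) (hrt : r ≠ t)
    (h1 : r ∣ C.relIndex H) (h2 : t ∣ C.relIndex H) : False := by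
  obtain ⟨g, hg1, hg2, hg3, -⟩ := h.exists_norm hr h1
  obtain ⟨V, _, _, _, hV, F⟩ := h.fixAct ⟨g, hg1, hg2, hg3⟩
  obtain ⟨V', _, _, _, hV', F'⟩ := h'.fixAct ⟨g, hg1, hg2, hg3⟩
  exact F.not_dvd F' hr ht hrt hV hV' (h.dvd_card hr h1) (h'.dvd_card ht h2)

end Cfsg.Lib.CS3
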